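import Cfsg.Agent.H965.XZ.Walk
import Cfsg.Agent.H554.RG

/-!
# The index of a maximal parabolic subgroup in type `B_m`, two parameters (helper965, for S4791 / S4927)

`S` a finite group generated by a root group datum of type `CoxeterMatrix.B m`, `|X_i| = y` for `i + 1 < m` and
`|X_{m-1}| = z`. `P_a := P_{I - {a - 1}}` (the stabiliser of a totally isotropic subspace of dimension `a`), `1 ≤ a ≤ m`.

* `card_PJ_B`, `card_top_B` : the orders of `P_a` and `S`;
* `index_B` : `|S : P_a| ∏_{i < a} [i+1] = ∏_{i < a} [m-a+i+1] (1 + y^(m-a+i) z)`, `[n] = 1 + y + … + y^(n-1)`;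
* `dvd_index_of` : a prime divisor `p` of one of the numbers `1 + y^i z`, `m - a ≤ i < m`, divides `|S : P_a|`;
* `dvd_index_B_all` : `p` divides the index of every `P_J` such that a node `j ≥ v` is not in `J`;
* `wit_sp`, `wit_minus`, `wit_su_even`, `wit_su_odd` : the hypotheses of `dvd_index_B_all` for `PSp_{2m}(q)`, `PΩ_{2m+1}(q)`,
  `PΩ⁻_{2m+2}(q)`, `PSU_{2m}(q)`, `PSU_{2m+1}(q)`, `p` a unitary prime, `v` the Witt index of the fixed space of a Sylow
  `p`-subgroup;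
* `dvd_index_B` : if `p` divides some number `1 + y^c z` and `p ∣ [i+1] (1 + y^i z)` for some `m - a ≤ i < m` then `p`
  divides `|S : P_a|`.
-/

set_option autoImplicit false
set_option linter.unusedSectionVars false

namespace Cfsg.Agent.H965.XZ

open CoxeterSystem Cfsg.Agent.ChevalleyStructure.CoxeterGeom Cfsg.Agent.Tits.Roots Cfsg.Agent.Tits.Core
  Cfsg.Agent.Tits.RootComb Cfsg.Agent.Tits.Exchange Cfsg.Agent.Nodes.Comb Cfsg.Agent.Nodes.Reps
  Cfsg.Agent.Nodes.BNOf Cfsg.Agent.Nodes.StabComb Cfsg.Agent.Nodes.Bruhat Cfsg.Agent.Nodes.OppDec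
  Cfsg.Agent.Nodes.LeviDec Cfsg.Agent.Nodes.NormalForm Cfsg.Agent.ChevalleyStructure.WeylAbstract
  Cfsg.Agent.H35.Poin

/-! ### Gaussian binomial coefficients -/

theorem gs_pos (y n : ℕ) : 0 < gs y (n + 1) := by
  unfold gs
  rw [Finset.sum_range_succ']
  simp

theorem gs_add (y a b : ℕ) : gs y (a + b) = gs y a + y ^ a * gs y b := by
  unfold gs
  rw [Finset.sum_range_add, Finset.mul_sum]
  congr 1
  exact Finset.sum_congr rfl fun t _ => pow_add _ _ _

/-- the Gaussian binomial coefficient -/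
theorem exists_gauss (y : ℕ) : ∀ a b : ℕ, ∃ g : ℕ, g * ∏ i ∈ Finset.range a, gs y (i + 1) =
    ∏ i ∈ Finset.range a, gs y (b + i + 1) := by
  intro a
  induction a with
  | zero => intro b; exact ⟨1, by simp⟩
  | succ a iha =>
    intro b
    induction b with
    | zero => exact ⟨1, by simp⟩
    | succ b ihb =>
      obtain ⟨g1, h1⟩ := iha (b + 1)
      obtain ⟨g2, h2⟩ := ihb
      refine ⟨g1 + y ^ (a + 1) * g2, ?_⟩
      have h3 : ∏ i ∈ Finset.range (a + 1), gs y (b + i + 1) =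
          gs y (b + 1) * ∏ i ∈ Finset.range a, gs y (b + 1 + i + 1) := by
        rw [Finset.prod_range_succ', mul_comm]
        congr 1
        refine Finset.prod_congr rfl fun i _ => ?_
        congr 1
        omega
      have h4 : ∏ i ∈ Finset.range (a + 1), gs y (b + 1 + i + 1) =
          gs y (a + 1) * ∏ i ∈ Finset.range a, gs y (b + 1 + i + 1) +
            y ^ (a + 1) * ∏ i ∈ Finset.range (a + 1), gs y (b + i + 1) := by
        rw [h3, Finset.prod_range_succ]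
        have h5 : b + 1 + a + 1 = (a + 1) + (b + 1) := by omega
        rw [h5, gs_add]
        ring
      rw [h4, ← h1, ← h2, Finset.prod_range_succ]
      ring

/-! ### The Coxeter matrix of type `B_m` -/

/-- the nodes -/
def nd {m : ℕ} (hm : 0 < m) (t : ℕ) : Fin m := ⟨t % m, Nat.mod_lt _ hm⟩

theorem nd_val {m : ℕ} (hm : 0 < m) {t : ℕ} (ht : t < m) : (nd hm t : ℕ) = t := Nat.mod_eq_of_lt ht

theorem B_ne {m : ℕ} {i j : Fin m} (hij : i ≠ j) : CoxeterMatrix.B m i j =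
    if (i : ℕ) = m - 1 ∧ (j : ℕ) = m - 2 ∨ (j : ℕ) = m - 1 ∧ (i : ℕ) = m - 2 then 4
      else (if (j : ℕ) + 1 = i ∨ (i : ℕ) + 1 = j then 3 else 2) := by
  show (if i = j then 1 else _) = _
  rw [if_neg hij]

section Cartan

variable {m : ℕ} {A : Fin m → Fin m → ℤ} (h : IsCartan (CoxeterMatrix.B m) A)

include h

theorem cart_far {i j : Fin m} (hij : (i : ℕ) + 1 < j) : A i j = 0 ∧ A j i = 0 := by
  have hne : i ≠ j := by rintro rfl; omega
  have h1 := h.rel i j hne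
  rw [B_ne hne, if_neg (by omega), if_neg (by omega)] at h1
  rcases h1 with h1 | h1 | h1 | h1
  · exact h1.2
  · omega
  · omega
  · omega

theorem cart_adj {i j : Fin m} (hij : (i : ℕ) + 1 = j) (hj : (j : ℕ) + 1 < m) : A i j = -1 ∧ A j i = -1 := by
  have hne : i ≠ j := by rintro rfl; omega
  have h1 := h.rel i j hne
  rw [B_ne hne, if_neg (by omega), if_pos (by omega)] at h1
  rcases h1 with h1 | h1 | h1 | h1
  · omega
  · exact h1.2
  · omega
  · omega

theorem cart_last {i j : Fin m} (hij : (i : ℕ) + 1 = j) (hj : (j : ℕ) + 1 = m) :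
    (A i j = -1 ∧ A j i = -2) ∨ (A i j = -2 ∧ A j i = -1) := by
  have hne : i ≠ j := by rintro rfl; omega
  have h1 := h.rel i j hne
  rw [B_ne hne, if_pos (by omega)] at h1
  rcases h1 with h1 | h1 | h1 | h1
  · omega
  · omega
  · exact h1.2
  · omega

/-- the tail of the diagram -/
theorem bpath_tail (hm : 0 < m) {k : ℕ} (hk : k ≤ m) {J : Set (Fin m)} (hJ : ∀ j, j ∈ J ↔ m - k ≤ (j : ℕ)) :
    BPath A J (fun t => nd hm (m - k + t)) k where
  mem t ht := (hJ _).2 (by rw [nd_val hm (by omega)]; omega)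
  adj t ht := cart_adj h (by rw [nd_val hm (by omega), nd_val hm (by omega)]; omega)
    (by rw [nd_val hm (by omega)]; omega)
  last t ht := cart_last h (by rw [nd_val hm (by omega), nd_val hm (by omega)]; omega)
    (by rw [nd_val hm (by omega)]; omega)
  far s t hs ht := cart_far h (by rw [nd_val hm (by omega), nd_val hm (by omega)]; omega)
  out j hj hc t ht := by
    exfalso
    refine hc ((j : ℕ) - (m - k)) ?_ ?_
    · have := (hJ j).1 hj
      have := j.2
      omega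
    · have := (hJ j).1 hj
      have := j.2
      exact Fin.ext (by rw [nd_val hm (by omega)]; omega)
  inj s hs t ht e := by
    have h1 := congrArg Fin.val e
    rw [nd_val hm (by omega), nd_val hm (by omega)] at h1
    omega

/-- the head of the diagram, the nodes `0, …, a - 2` of `I - {a - 1}` -/
theorem apath_head (hm : 0 < m) {a : ℕ} (ha : a ≤ m) : APath A {j : Fin m | (j : ℕ) + 1 ≠ a} (nd hm) (a - 1) where
  mem t ht := by
    show (nd hm t : ℕ) + 1 ≠ a
    rw [nd_val hm (by omega)]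
    omega
  adj t ht := cart_adj h (by rw [nd_val hm (by omega), nd_val hm (by omega)]) (by rw [nd_val hm (by omega)]; omega)
  far s t hs ht := cart_far h (by rw [nd_val hm (by omega), nd_val hm (by omega)]; exact hs)
  out j hj hc t ht := by
    have h1 : (j : ℕ) + 1 ≠ a := hj
    have h2 : a - 1 ≤ (j : ℕ) := by
      by_contra h3
      push Not at h3
      exact hc j h3 (Fin.ext (nd_val hm (by omega)))
    exact (cart_far h (by rw [nd_val hm (by omega)]; omega)).1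
  inj s hs t ht e := by
    have h1 := congrArg Fin.val e
    rwa [nd_val hm (by omega), nd_val hm (by omega)] at h1

end Cartan

/-! ### The index -/

section Index

variable {m : ℕ} {W Y : Type*} [Group W] [Group Y] {cs : CoxeterSystem (CoxeterMatrix.B m) W}
  {A : Fin m → Fin m → ℤ} {h : IsCartan (CoxeterMatrix.B m) A} {r : ℕ} {T : Subgroup Y} {n : Fin m → Y}
  {X : (Fin m → ℤ) → Subgroup Y} (R : RGD cs h r T n X)

include R

theorem card_tail [Finite W] [Finite Y] {y z : ℕ} (hy : ∀ i : Fin m, (i : ℕ) + 1 < m → Nat.card (X (sr i)) = y)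
    (hz : ∀ i : Fin m, (i : ℕ) + 1 = m → Nat.card (X (sr i)) = z) (hm : 0 < m) {k : ℕ} (hk : k ≤ m)
    {J : Set (Fin m)} (hJ : ∀ j, j ∈ J ↔ m - k ≤ (j : ℕ)) :
    Nat.card ↥(PJ cs h T X J) = (∏ i ∈ Finset.range k, gs y (i + 1) * (1 + y ^ i * z)) *
      Nat.card ↥(RGD.B cs h T X) := by
  rw [card_PJ_bpath R (bpath_tail h hm hk hJ) (y := y) (z := z)
    (fun t ht => hy _ (by rw [nd_val hm (by omega)]; omega)) (fun t ht => hz _ (by rw [nd_val hm (by omega)]; omega))]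
  have h1 : J \ {j | ∃ t < k, nd hm (m - k + t) = j} = ∅ := by
    rw [Set.eq_empty_iff_forall_notMem]
    rintro j ⟨h2, h3⟩
    refine h3 ⟨(j : ℕ) - (m - k), ?_, ?_⟩
    · have := (hJ j).1 h2
      have := j.2
      omega
    · have := (hJ j).1 h2
      have := j.2
      exact Fin.ext (by rw [nd_val hm (by omega)]; omega)
  rw [h1, PJ_empty]

/-- the order of `P_a` -/
theorem card_PJ_B [Finite W] [Finite Y] {y z : ℕ} (hy : ∀ i : Fin m, (i : ℕ) + 1 < m → Nat.card (X (sr i)) = y)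
    (hz : ∀ i : Fin m, (i : ℕ) + 1 = m → Nat.card (X (sr i)) = z) {a : ℕ} (ha : 1 ≤ a) (ham : a ≤ m) :
    Nat.card ↥(PJ cs h T X {j | (j : ℕ) + 1 ≠ a}) = (∏ i ∈ Finset.range a, gs y (i + 1)) *
      (∏ i ∈ Finset.range (m - a), gs y (i + 1) * (1 + y ^ i * z)) * Nat.card ↥(RGD.B cs h T X) := by
  have hm : 0 < m := by omega
  rw [card_PJ_path R (apath_head h hm ham) (y := y) (fun t ht => hy _ (by rw [nd_val hm (by omega)]; omega)),
    card_tail R hy hz hm (k := m - a) (by omega)]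
  · have h1 : ∏ i ∈ Finset.range a, gs y (i + 1) = ∏ i ∈ Finset.range (a - 1), ∑ t ∈ Finset.range (i + 2), y ^ t := by
      obtain ⟨b, rfl⟩ : ∃ b, a = b + 1 := ⟨a - 1, by omega⟩
      rw [Finset.prod_range_succ', Nat.add_sub_cancel]
      have h2 : gs y (0 + 1) = 1 := by simp [gs]
      rw [h2, mul_one]
      rfl
    rw [h1]
    ring
  · intro j
    have e : m - (m - a) = a := by omega
    rw [e]
    simp only [Set.mem_sdiff, Set.mem_ofPred_eq, not_exists, not_and]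
    constructor
    · rintro ⟨h1, h2⟩
      by_contra h3
      push Not at h3
      have := j.2
      exact h2 j (by omega) (Fin.ext (nd_val hm (by omega)))
    · intro h1
      refine ⟨by omega, fun t ht e => ?_⟩
      rw [← e, nd_val hm (by omega)] at h1
      omega

/-- the order of `S` -/
theorem card_top_B [Finite W] [Finite Y] (hG : GG cs h T X = ⊤) {y z : ℕ}
    (hy : ∀ i : Fin m, (i : ℕ) + 1 < m → Nat.card (X (sr i)) = y)
    (hz : ∀ i : Fin m, (i : ℕ) + 1 = m → Nat.card (X (sr i)) = z) (hm : 0 < m) :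
    Nat.card Y = (∏ i ∈ Finset.range m, gs y (i + 1) * (1 + y ^ i * z)) * Nat.card ↥(RGD.B cs h T X) := by
  rw [← card_tail R hy hz hm (k := m) le_rfl (J := Set.univ) (fun j => by simp), Cfsg.Agent.H554.RG.PJ_univ R hG]
  exact (Subgroup.card_top).symm

/-- **The index of `P_a`.** -/
theorem index_B [Finite W] [Finite Y] (hG : GG cs h T X = ⊤) {y z : ℕ}
    (hy : ∀ i : Fin m, (i : ℕ) + 1 < m → Nat.card (X (sr i)) = y)
    (hz : ∀ i : Fin m, (i : ℕ) + 1 = m → Nat.card (X (sr i)) = z) {a : ℕ} (ha : 1 ≤ a) (ham : a ≤ m) :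
    (PJ cs h T X {j | (j : ℕ) + 1 ≠ a}).index * ∏ i ∈ Finset.range a, gs y (i + 1) =
      ∏ i ∈ Finset.range a, gs y (m - a + i + 1) * (1 + y ^ (m - a + i) * z) := by
  have h1 := (PJ cs h T X {j | (j : ℕ) + 1 ≠ a}).index_mul_card
  rw [card_PJ_B R hy hz ha ham, card_top_B R hG hy hz (by omega)] at h1
  have e : m = (m - a) + a := by omega
  have h2 : ∏ i ∈ Finset.range m, gs y (i + 1) * (1 + y ^ i * z) =
      (∏ i ∈ Finset.range (m - a), gs y (i + 1) * (1 + y ^ i * z)) *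
        ∏ i ∈ Finset.range a, gs y (m - a + i + 1) * (1 + y ^ (m - a + i) * z) := by
    nth_rewrite 1 [e]
    rw [Finset.prod_range_add]
  rw [h2] at h1
  have h3 : 0 < Nat.card ↥(RGD.B cs h T X) := Nat.card_pos
  have h4 : 0 < ∏ i ∈ Finset.range (m - a), gs y (i + 1) * (1 + y ^ i * z) :=
    Finset.prod_pos fun i _ => Nat.mul_pos (gs_pos y i) (by positivity)
  refine Nat.eq_of_mul_eq_mul_left h4 (Nat.eq_of_mul_eq_mul_right h3 ?_)
  rw [← h1]
  ring

theorem exists_index_B [Finite W] [Finite Y] (hG : GG cs h T X = ⊤) {y z : ℕ}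
    (hy : ∀ i : Fin m, (i : ℕ) + 1 < m → Nat.card (X (sr i)) = y)
    (hz : ∀ i : Fin m, (i : ℕ) + 1 = m → Nat.card (X (sr i)) = z) {a : ℕ} (ha : 1 ≤ a) (ham : a ≤ m) :
    ∃ g : ℕ, (PJ cs h T X {j | (j : ℕ) + 1 ≠ a}).index = g * ∏ i ∈ Finset.range a, (1 + y ^ (m - a + i) * z) ∧
      g * ∏ i ∈ Finset.range a, gs y (i + 1) = ∏ i ∈ Finset.range a, gs y (m - a + i + 1) := by
  obtain ⟨g, hg⟩ := exists_gauss y a (m - a)
  refine ⟨g, ?_, hg⟩
  have h1 := index_B R hG hy hz ha ham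
  rw [Finset.prod_mul_distrib, ← hg] at h1
  have h4 : 0 < ∏ i ∈ Finset.range a, gs y (i + 1) := Finset.prod_pos fun i _ => gs_pos y i
  refine Nat.eq_of_mul_eq_mul_right h4 ?_
  rw [h1]
  ring

/-- a prime divisor of one of the factors `1 + y^i z` -/
theorem dvd_index_of [Finite W] [Finite Y] (hG : GG cs h T X = ⊤) {y z : ℕ}
    (hy : ∀ i : Fin m, (i : ℕ) + 1 < m → Nat.card (X (sr i)) = y)
    (hz : ∀ i : Fin m, (i : ℕ) + 1 = m → Nat.card (X (sr i)) = z) {a : ℕ} (ha : 1 ≤ a) (ham : a ≤ m) {p i : ℕ}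
    (hi : m - a ≤ i) (him : i < m) (hp : p ∣ 1 + y ^ i * z) : p ∣ (PJ cs h T X {j | (j : ℕ) + 1 ≠ a}).index := by
  obtain ⟨g, h1, -⟩ := exists_index_B R hG hy hz ha ham
  rw [h1]
  refine Dvd.dvd.mul_left (hp.trans ?_) g
  have e : i = m - a + (i - (m - a)) := by omega
  rw [e]
  exact Finset.dvd_prod_of_mem (fun j => 1 + y ^ (m - a + j) * z) (Finset.mem_range.2 (by omega))

omit R in
theorem pow_eq_one_of_dvd_gs {p y i : ℕ} (h : p ∣ gs y i) : ((y : ZMod p)) ^ i = 1 := by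
  have h1 : ((gs y i : ℕ) : ZMod p) * ((y : ZMod p) - 1) = (y : ZMod p) ^ i - 1 := by
    unfold gs
    push_cast
    exact geom_sum_mul _ _
  rw [(ZMod.natCast_eq_zero_iff _ _).2 h, zero_mul] at h1
  exact (sub_eq_zero.1 h1.symm)

/-- **Divisibility of the index.** -/
theorem dvd_index_B [Finite W] [Finite Y] (hG : GG cs h T X = ⊤) {y z : ℕ}
    (hy : ∀ i : Fin m, (i : ℕ) + 1 < m → Nat.card (X (sr i)) = y)
    (hz : ∀ i : Fin m, (i : ℕ) + 1 = m → Nat.card (X (sr i)) = z) {a : ℕ} (ha : 1 ≤ a) (ham : a ≤ m) {p : ℕ}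
    [hp : Fact p.Prime] {c : ℕ} (hc : p ∣ 1 + y ^ c * z) {i : ℕ} (hi : m - a ≤ i) (him : i < m)
    (hd : p ∣ gs y (i + 1) * (1 + y ^ i * z)) : p ∣ (PJ cs h T X {j | (j : ℕ) + 1 ≠ a}).index := by
  rcases (hp.out.dvd_mul).1 hd with hd | hd
  swap
  · exact dvd_index_of R hG hy hz ha ham hi him hd
  by_cases hex : ∃ j < a, p ∣ gs y (j + 1)
  · obtain ⟨j, hj, hpj⟩ := hex
    -- the order of `y` modulo `p` is at most `a`
    have h1 := pow_eq_one_of_dvd_gs hpj
    -- a number in the window congruent to `c`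
    obtain ⟨i', h2, h3, h4⟩ : ∃ i', m - a ≤ i' ∧ i' < m ∧ (y : ZMod p) ^ i' = (y : ZMod p) ^ c := by
      have hy0 : ((y : ZMod p)) ^ (j + 1) = 1 := h1
      have key : ∀ k : ℕ, (y : ZMod p) ^ (k * (j + 1)) = 1 := fun k => by
        rw [mul_comm, pow_mul, hy0, one_pow]
      -- `i' = m - a + ((c + (m - a) * j) % (j + 1))`
      refine ⟨m - a + ((c + (m - a) * j) % (j + 1)), by omega, ?_, ?_⟩
      · have := Nat.mod_lt (c + (m - a) * j) (Nat.succ_pos j)
        rw [Nat.succ_eq_add_one] at this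
        omega
      · have h5 := Nat.div_add_mod (c + (m - a) * j) (j + 1)
        have h6 : (y : ZMod p) ^ (m - a + ((c + (m - a) * j) % (j + 1))) *
            (y : ZMod p) ^ ((c + (m - a) * j) / (j + 1) * (j + 1)) = (y : ZMod p) ^ c * (y : ZMod p) ^ ((m - a) * (j + 1)) := by
          rw [← pow_add, ← pow_add]
          congr 1
          have h7 : (j + 1) * ((c + (m - a) * j) / (j + 1)) = (c + (m - a) * j) / (j + 1) * (j + 1) := mul_comm _ _
          rw [h7] at h5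
          have h8 : (m - a) * (j + 1) = (m - a) * j + (m - a) := by ring
          omega
        rw [key, key, mul_one, mul_one] at h6
        exact h6
    refine dvd_index_of R hG hy hz ha ham h2 h3 ?_
    rw [← ZMod.natCast_eq_zero_iff] at hc ⊢
    push_cast at hc ⊢
    rw [h4]
    exact hc
  · push Not at hex
    have h1 : p ∣ (PJ cs h T X {j | (j : ℕ) + 1 ≠ a}).index * ∏ i ∈ Finset.range a, gs y (i + 1) := by
      rw [index_B R hG hy hz ha ham]
      have e : i = m - a + (i - (m - a)) := by omega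
      refine dvd_trans ?_ (Finset.dvd_prod_of_mem (fun j => gs y (m - a + j + 1) * (1 + y ^ (m - a + j) * z))
        (Finset.mem_range.2 (show i - (m - a) < a by omega)))
      show p ∣ gs y (m - a + (i - (m - a)) + 1) * _
      rw [← e]
      exact Dvd.dvd.mul_right hd _
    rcases (hp.out.dvd_mul).1 h1 with h2 | h2
    · exact h2
    · exfalso
      obtain ⟨j, hj, hpj⟩ := (hp.out.prime.dvd_finsetProd_iff _).1 h2
      exact hex j (Finset.mem_range.1 hj) hpj

/-- a smaller parabolic subgroup -/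
theorem dvd_index_mono [Finite W] {J J' : Set (Fin m)} (hJ : J ⊆ J') {p : ℕ} (hp : p ∣ (PJ cs h T X J').index) :
    p ∣ (PJ cs h T X J).index :=
  hp.trans (Subgroup.index_dvd_of_le (Cfsg.Agent.H554.RG.PJ_mono R hJ))

/-- **All parabolic subgroups `P_J` such that one of the nodes `j ≥ v` is not in `J`** (`P` fixes no totally isotropic
subspace of dimension `> v`): `v < m`, `p ∣ [m - v] (1 + y^(m-v-1) z)` and `p` divides some number `1 + y^c z`. -/
theorem dvd_index_B_all [Finite W] [Finite Y] (hG : GG cs h T X = ⊤) {y z : ℕ}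
    (hy : ∀ i : Fin m, (i : ℕ) + 1 < m → Nat.card (X (sr i)) = y)
    (hz : ∀ i : Fin m, (i : ℕ) + 1 = m → Nat.card (X (sr i)) = z) {p : ℕ} [hp : Fact p.Prime] {c v : ℕ} (hv : v < m)
    (hc : p ∣ 1 + y ^ c * z) (hd : p ∣ gs y (m - v) * (1 + y ^ (m - v - 1) * z)) {J : Set (Fin m)} {j : Fin m}
    (hj : v ≤ (j : ℕ)) (hjJ : j ∉ J) : p ∣ (PJ cs h T X J).index := by
  refine dvd_index_mono R (J' := {i | (i : ℕ) + 1 ≠ (j : ℕ) + 1}) (fun i hi e => hjJ ?_) ?_
  · have e1 : i = j := Fin.ext (Nat.succ_injective e)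
    rwa [← e1]
  · have h1 := j.2
    refine dvd_index_B R hG hy hz (a := (j : ℕ) + 1) (by omega) (by omega) hc (i := m - v - 1) (by omega) (by omega) ?_
    have e : m - v - 1 + 1 = m - v := by omega
    rw [e]
    exact hd

end Index

/-! ### The numbers of the families -/

section Num

variable {p : ℕ} [hp : Fact p.Prime]

theorem dvd_gs_of {y j : ℕ} (h1 : (y : ZMod p) ≠ 1) (h : (y : ZMod p) ^ j = 1) : p ∣ gs y j := by
  have h2 : ((gs y j : ℕ) : ZMod p) * ((y : ZMod p) - 1) = (y : ZMod p) ^ j - 1 := by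
    unfold gs
    push_cast
    exact geom_sum_mul _ _
  rw [h, sub_self, mul_eq_zero, sub_eq_zero, or_iff_left h1] at h2
  exact (ZMod.natCast_eq_zero_iff _ _).1 h2

theorem ne_one_of_order {y : ZMod p} {d : ℕ} (h : orderOf y = 2 * d) : y ≠ 1 := by
  rintro rfl
  rw [orderOf_one] at h
  omega

theorem pow_half {y : ZMod p} {d : ℕ} (h : orderOf y = 2 * d) (hd : 0 < d) : y ^ d = -1 := by
  have h1 : y ^ d * y ^ d = 1 := by rw [← pow_add, ← two_mul, ← h, pow_orderOf_eq_one]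
  rcases mul_self_eq_one_iff.1 h1 with h2 | h2
  · exfalso
    have h3 := orderOf_dvd_of_pow_eq_one h2
    rw [h] at h3
    have := Nat.le_of_dvd hd h3
    omega
  · exact h2

theorem dvd_of_neg_one {x k : ℕ} (h : (x : ZMod p) ^ k = -1) {z : ℕ} (hz : z = x ^ k) : p ∣ 1 + z := by
  rw [← ZMod.natCast_eq_zero_iff, hz]
  push_cast
  rw [h]
  ring

/-- `z = y`: `PSp_{2m}`, `PΩ_{2m+1}` -/
theorem num_one {q j : ℕ} (hj : 1 ≤ j) (h1 : (q : ZMod p) ≠ 1) (h : (q : ZMod p) ^ j = 1 ∨ (q : ZMod p) ^ j = -1) :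
    p ∣ gs q j * (1 + q ^ (j - 1) * q) := by
  rcases h with h | h
  · exact Dvd.dvd.mul_right (dvd_gs_of h1 h) _
  · refine Dvd.dvd.mul_left (dvd_of_neg_one h ?_) _
    rw [← pow_succ]
    congr 1
    omega

/-- `z = y²`: `PΩ⁻_{2m+2}` -/
theorem num_two {q j : ℕ} (hj : 1 ≤ j) (h1 : (q : ZMod p) ≠ 1)
    (h : (q : ZMod p) ^ j = 1 ∨ (q : ZMod p) ^ (j + 1) = -1) : p ∣ gs q j * (1 + q ^ (j - 1) * q ^ 2) := by
  rcases h with h | h
  · exact Dvd.dvd.mul_right (dvd_gs_of h1 h) _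
  · refine Dvd.dvd.mul_left (dvd_of_neg_one h ?_) _
    rw [← pow_add]
    congr 1
    omega

/-- `y = q²`, `z = q`: `PSU_{2m}` -/
theorem num_su_even {q j : ℕ} (hj : 1 ≤ j)
    (h : ((q : ZMod p) ^ 2 ≠ 1 ∧ (q : ZMod p) ^ (2 * j) = 1) ∨ (q : ZMod p) ^ (2 * j - 1) = -1) :
    p ∣ gs (q ^ 2) j * (1 + (q ^ 2) ^ (j - 1) * q) := by
  rcases h with ⟨h1, h⟩ | h
  · refine Dvd.dvd.mul_right (dvd_gs_of (by push_cast; exact h1) ?_) _
    push_cast
    rw [← pow_mul]
    exact h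
  · refine Dvd.dvd.mul_left (dvd_of_neg_one h ?_) _
    rw [← pow_mul, ← pow_succ]
    congr 1
    omega

/-- `y = q²`, `z = q³`: `PSU_{2m+1}` -/
theorem num_su_odd {q j : ℕ} (hj : 1 ≤ j)
    (h : ((q : ZMod p) ^ 2 ≠ 1 ∧ (q : ZMod p) ^ (2 * j) = 1) ∨ (q : ZMod p) ^ (2 * j + 1) = -1) :
    p ∣ gs (q ^ 2) j * (1 + (q ^ 2) ^ (j - 1) * q ^ 3) := by
  rcases h with ⟨h1, h⟩ | h
  · refine Dvd.dvd.mul_right (dvd_gs_of (by push_cast; exact h1) ?_) _
    push_cast
    rw [← pow_mul]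
    exact h
  · refine Dvd.dvd.mul_left (dvd_of_neg_one h ?_) _
    rw [← pow_mul, ← pow_add]
    congr 1
    omega

theorem pow_half_mul {y : ZMod p} {d : ℕ} (h : orderOf y = 2 * d) (hd : 0 < d) (k : ℕ) :
    y ^ (d * k) = (-1) ^ k := by
  rw [pow_mul, pow_half h hd]

/-- **`PSp_{2m}(q)`, `PΩ_{2m+1}(q)`**, `ord_p(q) = 2 d`, `d ≤ m` : the Witt index `m mod d` -/
theorem wit_sp {q d m : ℕ} (h : orderOf (q : ZMod p) = 2 * d) (hd : 0 < d) (hdm : d ≤ m) :
    m % d < m ∧ p ∣ 1 + q ^ (d - 1) * q ∧ p ∣ gs q (m - m % d) * (1 + q ^ (m - m % d - 1) * q) := by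
  have h0 := Nat.mod_lt m hd
  have h1 := Nat.div_add_mod m d
  have h2 : m - m % d = d * (m / d) := by omega
  refine ⟨by omega, dvd_of_neg_one (pow_half h hd) ?_, ?_⟩
  · rw [← pow_succ]
    congr 1
    omega
  · rw [h2]
    refine num_one ?_ (ne_one_of_order h) ?_
    · have := Nat.div_pos hdm hd
      exact Nat.mul_pos hd this
    · rw [pow_half_mul h hd]
      exact neg_one_pow_eq_or _ _

/-- the Witt index of the complement for `Ω⁻_{2m+2}(q)`, `ord_p(q) = 2 d` -/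
def wm (m d : ℕ) : ℕ := if (m + 1) / d % 2 = 1 then (m + 1) % d else if (m + 1) % d = 0 then d else (m + 1) % d - 1

omit hp in
theorem wm_lt {m d : ℕ} (hm : 2 ≤ m) (hd : 0 < d) (hdm : d ≤ m + 1) : wm m d < m := by
  have h0 := Nat.mod_lt (m + 1) hd
  have h1 := Nat.div_add_mod (m + 1) d
  have h2 := Nat.div_pos hdm hd
  unfold wm
  split_ifs with h3 h4
  · have h5 : d ≤ d * ((m + 1) / d) := Nat.le_mul_of_pos_right _ h2
    rcases Nat.lt_or_ge d 2 with h6 | h6
    · have h7 : d = 1 := by omega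
      rw [h7] at h0 ⊢
      omega
    · omega
  · have h5 : 2 ≤ (m + 1) / d := by omega
    have h6 : d * 2 ≤ d * ((m + 1) / d) := Nat.mul_le_mul_left d h5
    omega
  · omega

/-- **`PΩ⁻_{2m+2}(q)`**, `ord_p(q) = 2 d`, `d ≤ m + 1`, `m ≥ 2` : the Witt index `wm m d` -/
theorem wit_minus {q d m : ℕ} (h : orderOf (q : ZMod p) = 2 * d) (hd : 0 < d) (hdm : d ≤ m + 1) (hm2 : 2 ≤ m) :
    wm m d < m ∧ p ∣ 1 + q ^ (3 * d - 2) * q ^ 2 ∧
      p ∣ gs q (m - wm m d) * (1 + q ^ (m - wm m d - 1) * q ^ 2) := by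
  have h0 := Nat.mod_lt (m + 1) hd
  have h1 := Nat.div_add_mod (m + 1) d
  have hm := wm_lt hm2 hd hdm
  refine ⟨hm, dvd_of_neg_one (x := q) (k := d * 3) ?_ ?_, ?_⟩
  · rw [pow_half_mul h hd]
    norm_num
  · rw [← pow_add]
    congr 1
    omega
  · refine num_two (by omega) (ne_one_of_order h) ?_
    unfold wm at hm ⊢
    split_ifs at hm ⊢ with h3 h4
    · right
      have e : m - (m + 1) % d + 1 = d * ((m + 1) / d) := by omega
      rw [e, pow_half_mul h hd]
      exact Odd.neg_one_pow (Nat.odd_iff.2 h3)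
    · right
      have h5 : 1 ≤ (m + 1) / d := by
        rcases Nat.eq_zero_or_pos ((m + 1) / d) with h6 | h6
        · rw [h6] at h1; omega
        · exact h6
      obtain ⟨w, hw⟩ : ∃ w, (m + 1) / d = w + 1 := ⟨(m + 1) / d - 1, by omega⟩
      rw [hw] at h1 h3
      have e : m - d + 1 = d * w := by
        have : d * (w + 1) = d * w + d := by ring
        omega
      rw [e, pow_half_mul h hd]
      exact Odd.neg_one_pow (Nat.odd_iff.2 (by omega))
    · left
      have e : m - ((m + 1) % d - 1) = d * ((m + 1) / d) := by omega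
      rw [e, pow_half_mul h hd]
      exact Even.neg_one_pow (Nat.even_iff.2 (by omega))

theorem pow_neg_order {q : ZMod p} {δ : ℕ} (h : orderOf (-q) = δ) (ho : Odd δ) : q ^ δ = -1 := by
  have h1 : (-q) ^ δ = 1 := by rw [← h, pow_orderOf_eq_one]
  rw [ho.neg_pow, neg_eq_iff_eq_neg] at h1
  exact h1

theorem pow_neg_order_mul {q : ZMod p} {δ : ℕ} (h : orderOf (-q) = δ) (ho : Odd δ) (k : ℕ) :
    q ^ (δ * k) = (-1) ^ k := by
  rw [pow_mul, pow_neg_order h ho]

theorem sq_ne_one {q : ZMod p} {δ : ℕ} (h : orderOf (-q) = δ) (ho : Odd δ) (h1 : δ ≠ 1) : q ^ 2 ≠ 1 := by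
  intro h2
  have h3 : (-q) ^ 2 = 1 := by rw [neg_sq, h2]
  have h4 := orderOf_dvd_of_pow_eq_one h3
  rw [h] at h4
  have := Nat.le_of_dvd two_pos h4
  obtain ⟨k, hk⟩ := ho
  omega

/-- **`PSU_{2m}(q)`**, `δ = ord_p(-q)` odd, `δ ≤ 2 m` : the Witt index `((2 m) mod δ) / 2` -/
theorem wit_su_even {q δ m : ℕ} (h : orderOf (-(q : ZMod p)) = δ) (ho : Odd δ) (hδ : δ ≤ 2 * m) (hm : 0 < m) :
    (2 * m % δ) / 2 < m ∧ p ∣ 1 + (q ^ 2) ^ ((δ - 1) / 2) * q ∧
      p ∣ gs (q ^ 2) (m - (2 * m % δ) / 2) * (1 + (q ^ 2) ^ (m - (2 * m % δ) / 2 - 1) * q) := by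
  have hδ0 : 0 < δ := ho.pos
  have h0 := Nat.mod_lt (2 * m) hδ0
  have h1 := Nat.div_add_mod (2 * m) δ
  have h2 := Nat.div_pos hδ hδ0
  have h3 : δ ≤ δ * (2 * m / δ) := Nat.le_mul_of_pos_right _ h2
  have hv : (2 * m % δ) / 2 < m := by omega
  refine ⟨hv, dvd_of_neg_one (pow_neg_order h ho) ?_, num_su_even (by omega) ?_⟩
  · rw [← pow_mul, ← pow_succ]
    congr 1
    obtain ⟨k, hk⟩ := ho
    omega
  · rcases Nat.even_or_odd' (2 * m % δ) with ⟨v, hv' | hv'⟩
    · by_cases hδ1 : δ = 1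
      · right
        subst hδ1
        have h4 := pow_neg_order_mul h ho (2 * (m - 1) + 1)
        have e : 2 * (m - 2 * m % 1 / 2) - 1 = 1 * (2 * (m - 1) + 1) := by omega
        rw [e, h4]
        exact Odd.neg_one_pow ⟨_, rfl⟩
      · left
        refine ⟨sq_ne_one h ho hδ1, ?_⟩
        have e : 2 * (m - 2 * m % δ / 2) = δ * (2 * m / δ) := by omega
        rw [e, pow_neg_order_mul h ho]
        refine Even.neg_one_pow ?_
        have h5 : Even (δ * (2 * m / δ)) := ⟨m - 2 * m % δ / 2, by omega⟩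
        rw [Nat.even_mul] at h5
        exact h5.resolve_left (Nat.not_even_iff_odd.2 ho)
    · right
      have e : 2 * (m - 2 * m % δ / 2) - 1 = δ * (2 * m / δ) := by omega
      rw [e, pow_neg_order_mul h ho]
      refine Odd.neg_one_pow ?_
      have h5 : Odd (δ * (2 * m / δ)) := ⟨m - 2 * m % δ / 2 - 1, by omega⟩
      exact (Nat.odd_mul.1 h5).2

/-- **`PSU_{2m+1}(q)`**, `δ = ord_p(-q)` odd, `δ ≤ 2 m + 1` : the Witt index `((2 m + 1) mod δ) / 2` -/
theorem wit_su_odd {q δ m : ℕ} (h : orderOf (-(q : ZMod p)) = δ) (ho : Odd δ) (hδ : δ ≤ 2 * m + 1) (hm : 0 < m) :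
    ((2 * m + 1) % δ) / 2 < m ∧ p ∣ 1 + (q ^ 2) ^ ((3 * δ - 3) / 2) * q ^ 3 ∧
      p ∣ gs (q ^ 2) (m - ((2 * m + 1) % δ) / 2) * (1 + (q ^ 2) ^ (m - ((2 * m + 1) % δ) / 2 - 1) * q ^ 3) := by
  have hδ0 : 0 < δ := ho.pos
  have h0 := Nat.mod_lt (2 * m + 1) hδ0
  have h1 := Nat.div_add_mod (2 * m + 1) δ
  have h2 := Nat.div_pos hδ hδ0
  have h3 : δ ≤ δ * ((2 * m + 1) / δ) := Nat.le_mul_of_pos_right _ h2
  obtain ⟨k, hk⟩ := ho
  have ho : Odd δ := ⟨k, hk⟩
  have hv : ((2 * m + 1) % δ) / 2 < m := by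
    by_cases hk0 : k = 0
    · have : (2 * m + 1) % δ = 0 := by rw [hk, hk0]; omega
      omega
    · omega
  refine ⟨hv, dvd_of_neg_one (x := q) (k := δ * 3) ?_ ?_, num_su_odd (by omega) ?_⟩
  · rw [pow_neg_order_mul h ho]
    norm_num
  · rw [← pow_mul, ← pow_add]
    congr 1
    omega
  · rcases Nat.even_or_odd' ((2 * m + 1) % δ) with ⟨v, hv' | hv'⟩
    · right
      have e : 2 * (m - (2 * m + 1) % δ / 2) + 1 = δ * ((2 * m + 1) / δ) := by omega
      rw [e, pow_neg_order_mul h ho]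
      refine Odd.neg_one_pow ?_
      have h5 : Odd (δ * ((2 * m + 1) / δ)) := ⟨m - (2 * m + 1) % δ / 2, by omega⟩
      exact (Nat.odd_mul.1 h5).2
    · left
      refine ⟨sq_ne_one h ho (fun h6 => ?_), ?_⟩
      · rw [h6, Nat.mod_one] at hv'
        omega
      · have e : 2 * (m - (2 * m + 1) % δ / 2) = δ * ((2 * m + 1) / δ) := by omega
        rw [e, pow_neg_order_mul h ho]
        refine Even.neg_one_pow ?_
        have h5 : Even (δ * ((2 * m + 1) / δ)) := ⟨m - (2 * m + 1) % δ / 2, by omega⟩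
        rw [Nat.even_mul] at h5
        exact h5.resolve_left (Nat.not_even_iff_odd.2 ho)

end Num

end Cfsg.Agent.H965.XZ
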