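import Cfsg.Agent.H538.GlCyc
import Cfsg.Agent.H308.LemB
import Cfsg.Agent.Lib.NormalAbelian

/-!
# Nonabelian `p`-groups of linear transformations over a finite field (helper965, for S4791 / S4927)

`F` a finite field, `p` a prime different from the characteristic, `e` the order of `|F|` modulo `p`:
* `le_finrank_of_nonab` : a nonabelian `p`-group of linear transformations has degree at least `p e`;
* `of_surjective` : `G₀` with a faithful representation of degree `n` over `F`, `S` a quotient of `G₀`: `2 e ≤ n` if the Sylow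
  `p`-subgroups of `S` are not cyclic and `p e ≤ n` if they are not abelian.
-/

set_option autoImplicit false
set_option linter.unusedSectionVars false

namespace Cfsg.Agent.H965.XZ

open Module Polynomial
open scoped commutatorElement

universe u v

section lin

variable {F : Type u} [Field F] {V : Type v} [AddCommGroup V] [Module F V]

theorem coe_aeval_restrict {T : V →ₗ[F] V} {W : Submodule F V} (hW : ∀ w ∈ W, T w ∈ W) (g : F[X]) (w : W) :
    ((aeval (T.restrict hW) g w : W) : V) = aeval T g (w : V) := by
  induction g using Polynomial.induction_on' with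
  | add g h hg hh => rw [map_add, map_add, LinearMap.add_apply, LinearMap.add_apply, Submodule.coe_add, hg, hh]
  | monomial n a =>
    rw [aeval_monomial, aeval_monomial, Module.End.mul_apply, Module.End.mul_apply, Module.algebraMap_end_apply,
      Module.algebraMap_end_apply, Submodule.coe_smul]
    congr 1
    induction n generalizing w with
    | zero => rfl
    | succ n ih =>
      rw [pow_succ, pow_succ, Module.End.mul_apply, Module.End.mul_apply, ih]
      rfl

end lin

theorem commutator_le_ker {E : Type u} [Field E] {W : Type v} [AddCommGroup W] [Module E W] [FiniteDimensional E W]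
    {p : ℕ} [hp : Fact p.Prime] (hpE : (p : E) ≠ 0) {R : Type*} [Group R] [Finite R] (hR : IsPGroup p R)
    (σ : R →* Module.End E W) (hlt : finrank E W < p) : commutator R ≤ σ.ker := by
  let τ : R →* (Module.End E W)ˣ := σ.toHomUnits
  have hcm : ∀ a b : R ⧸ τ.ker, a * b = b * a := fun a b =>
    Cfsg.Agent.H308.LemB.pgroup_comm_of_finrank_lt ((Units.coeHom (Module.End E W)).comp (QuotientGroup.kerLift τ))
      (Units.val_injective.comp (QuotientGroup.kerLift_injective τ)) hp.out (hR.to_quotient _) hpE hlt a b
  rw [commutator_def, Subgroup.commutator_le]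
  intro a _ b _
  have h2 : ((⁅a, b⁆ : R) : R ⧸ τ.ker) = 1 := by
    exact commutatorElement_eq_one_iff_mul_comm.2 (hcm (QuotientGroup.mk a) (QuotientGroup.mk b))
  have h3 := MonoidHom.mem_ker.1 ((QuotientGroup.eq_one_iff _).1 h2)
  exact congrArg Units.val h3

section main

variable {F : Type u} [Field F] [Finite F] {V : Type v} [AddCommGroup V] [Module F V] [FiniteDimensional F V]
  {p : ℕ} [hp : Fact p.Prime]

/-- an eigenspace over an extension field -/
theorem exists_factor {T : V →ₗ[F] V} {g : F[X]} (hg : g ≠ 0) {v : V} (hv : v ≠ 0) (hgv : aeval T g v = 0) :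
    ∃ f : F[X], Irreducible f ∧ f ∣ g ∧ ∃ u : V, u ≠ 0 ∧ aeval T f u = 0 := by
  let I : Ideal F[X] :=
    { carrier := {g | aeval T g v = 0}
      add_mem' := fun {a b} ha hb => by
        show aeval T (a + b) v = 0
        have ha' : aeval T a v = 0 := ha
        have hb' : aeval T b v = 0 := hb
        rw [map_add, LinearMap.add_apply, ha', hb', add_zero]
      zero_mem' := by
        show aeval T (0 : F[X]) v = 0
        rw [map_zero, LinearMap.zero_apply]
      smul_mem' := fun c {a} ha => by
        show aeval T (c * a) v = 0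
        have ha' : aeval T a v = 0 := ha
        rw [map_mul, Module.End.mul_apply, ha', map_zero] }
  have hI : ∀ g : F[X], g ∈ I ↔ aeval T g v = 0 := fun g => Iff.rfl
  let m := Submodule.IsPrincipal.generator I
  have hm : ∀ g : F[X], g ∈ I ↔ m ∣ g := fun g => Submodule.IsPrincipal.mem_iff_generator_dvd I
  have hmg : m ∣ g := (hm g).1 ((hI g).2 hgv)
  have hm0 : m ≠ 0 := fun h => hg (zero_dvd_iff.1 (h ▸ hmg))
  have hmu : ¬ IsUnit m := by
    intro h
    have h1 : (1 : F[X]) ∈ I := (hm 1).2 (h.dvd)
    rw [hI, map_one] at h1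
    exact hv h1
  obtain ⟨f, hf, k, hk⟩ := WfDvdMonoid.exists_irreducible_factor hmu hm0
  refine ⟨f, hf, ?_, aeval T k v, ?_, ?_⟩
  · exact (Dvd.intro k hk.symm).trans hmg
  · intro h
    obtain ⟨l, hl⟩ := (hm k).1 ((hI k).2 h)
    have hk0 : k ≠ 0 := fun h0 => hm0 (by rw [hk, h0, mul_zero])
    have h2 : k * 1 = k * (f * l) := by
      rw [mul_one]
      nth_rewrite 1 [hl]
      rw [hk]
      ring
    exact hf.not_isUnit (IsUnit.of_mul_eq_one _ (mul_left_cancel₀ hk0 h2).symm)
  · rw [← Module.End.mul_apply, ← map_mul, ← hk]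
    exact (hI m).1 ((hm m).2 dvd_rfl)

/-- **A nonabelian `p`-group of linear transformations has degree at least `p e`.** -/
theorem le_finrank_of_nonab (hpF : (p : F) ≠ 0) {R : Type*} [Group R] [Finite R] (hR : IsPGroup p R)
    (ρ : R →* Module.End F V) (hρ : Function.Injective ρ) (hna : ¬ ∀ x y : R, x * y = y * x) :
    p * orderOf ((Nat.card F : ℕ) : ZMod p) ≤ finrank F V := by
  classical
  have hnil : Group.IsNilpotent R := hR.isNilpotent
  have hc : commutator R ≠ ⊥ := by
    intro h
    apply hna
    intro x y
    have h1 : ⁅x, y⁆ ∈ commutator R := Subgroup.commutator_mem_commutator (Subgroup.mem_top x) (Subgroup.mem_top y)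
    rw [h, Subgroup.mem_bot] at h1
    exact commutatorElement_eq_one_iff_mul_comm.1 h1
  have h1 := Lib.NormalAbelian.normal_inf_center_ne_bot (commutator R) hc
  obtain ⟨z, hz, hzo⟩ : ∃ z ∈ commutator R ⊓ Subgroup.center R, orderOf z = p := by
    have h2 : IsPGroup p ↥(commutator R ⊓ Subgroup.center R) := hR.to_subgroup _
    have hnt : Nontrivial ↥(commutator R ⊓ Subgroup.center R) := (Subgroup.nontrivial_iff_ne_bot _).2 h1
    have hd : p ∣ Nat.card ↥(commutator R ⊓ Subgroup.center R) := by
      obtain ⟨n, hn⟩ := h2.exists_card_eq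
      rcases Nat.eq_zero_or_pos n with h0 | h0
      · rw [h0, pow_zero] at hn
        exact absurd hn (Finite.one_lt_card).ne'
      · rw [hn]
        exact dvd_pow_self p h0.ne'
    obtain ⟨z, hz⟩ := exists_prime_orderOf_dvd_card' p hd
    exact ⟨z, z.2, by rw [Subgroup.orderOf_coe]; exact hz⟩
  have hzc : ∀ x : R, z * x = x * z := fun x => (Subgroup.mem_center_iff.1 hz.2 x).symm
  let T : V →ₗ[F] V := ρ z
  have hTp : T ^ p = 1 := by
    show ρ z ^ p = 1
    rw [← map_pow, ← hzo, pow_orderOf_eq_one, map_one]
  have hT1 : T ≠ 1 := by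
    intro h
    have h2 : z = 1 := hρ (by rw [map_one]; exact h)
    rw [h2, orderOf_one] at hzo
    exact hp.out.one_lt.ne hzo
  let Φ : F[X] := ∑ i ∈ Finset.range p, X ^ i
  have hΦ : Φ * (X - 1) = X ^ p - 1 := geom_sum_mul X p
  have hΦ0 : Φ ≠ 0 := by
    intro h
    rw [h, zero_mul] at hΦ
    exact X_pow_sub_C_ne_zero hp.out.pos (1 : F) (by rw [map_one]; exact hΦ.symm)
  -- a vector in `[V, T]`
  obtain ⟨v₀, hv₀⟩ : ∃ v, (T - 1) v ≠ 0 := by
    by_contra h
    push Not at h
    exact hT1 (sub_eq_zero.1 (LinearMap.ext h))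
  have hkill : aeval T Φ ((T - 1) v₀) = 0 := by
    have e1 : T - 1 = aeval T (X - 1 : F[X]) := by rw [map_sub, aeval_X, map_one]
    rw [e1, ← Module.End.mul_apply, ← map_mul, hΦ, map_sub, map_pow, aeval_X, map_one, hTp, sub_self,
      LinearMap.zero_apply]
  obtain ⟨f, hf, hfΦ, u, hu0, hu⟩ := exists_factor hΦ0 hv₀ hkill
  -- the space
  let W : Submodule F V := LinearMap.ker (aeval T f)
  have hW : ∀ x : R, ∀ w ∈ W, ρ x w ∈ W := by
    intro x w hw
    have hw' : aeval T f w = 0 := hw
    have hcomm : Commute (ρ x) (aeval T f) := by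
      refine Polynomial.induction_on' (motive := fun g => Commute (ρ x) (aeval T g)) f (fun a b ha hb => ?_) fun n a => ?_
      · show Commute (ρ x) (aeval T (a + b))
        rw [map_add]
        exact ha.add_right hb
      · show Commute (ρ x) (aeval T (monomial n a))
        rw [aeval_monomial]
        refine (Algebra.commute_algebraMap_right a (ρ x)).mul_right (Commute.pow_right ?_ n)
        show ρ x * ρ z = ρ z * ρ x
        rw [← map_mul, ← map_mul, hzc]
    show aeval T f (ρ x w) = 0
    rw [← Module.End.mul_apply, ← hcomm.eq, Module.End.mul_apply, hw', map_zero]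
  have hTW : ∀ w ∈ W, T w ∈ W := hW z
  have hfix : ∀ w ∈ W, T w = w → w = 0 := by
    intro w hw hTw
    have hw' : aeval T f w = 0 := hw
    obtain ⟨k, hk⟩ := hfΦ
    have h2 : aeval T Φ w = 0 := by
      rw [hk, mul_comm, map_mul, Module.End.mul_apply, hw', map_zero]
    have h3 : ∀ i : ℕ, (T ^ i) w = w := by
      intro i
      induction i with
      | zero => rfl
      | succ i ih => rw [pow_succ, Module.End.mul_apply, hTw, ih]
    have h4 : aeval T Φ w = (p : F) • w := by
      show aeval T (∑ i ∈ Finset.range p, X ^ i) w = _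
      rw [map_sum, LinearMap.sum_apply]
      simp only [map_pow, aeval_X, h3, Finset.sum_const, Finset.card_range]
      rw [Nat.cast_smul_eq_nsmul]
    rw [h4] at h2
    exact (smul_eq_zero.1 h2).resolve_left hpF
  have : Fact (Irreducible f) := ⟨hf⟩
  let E := AdjoinRoot f
  let TW : Module.End F W := T.restrict hTW
  have hev : aeval TW f = 0 := by
    refine LinearMap.ext fun w => Subtype.ext ?_
    rw [coe_aeval_restrict hTW f w]
    exact w.2
  let φ : E →+* Module.End F W := Ideal.Quotient.lift (Ideal.span {f}) (aeval TW : F[X] →ₐ[F] Module.End F W).toRingHom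
    (fun a ha => by
      obtain ⟨b, rfl⟩ := Ideal.mem_span_singleton'.1 ha
      show aeval TW (b * f) = 0
      rw [map_mul, hev, mul_zero])
  have hφ : ∀ g : F[X], φ (AdjoinRoot.mk f g) = aeval TW g := fun g => rfl
  let _ : Module E W := Module.compHom W φ
  have hsm : ∀ (c : E) (w : W), c • w = φ c w := fun _ _ => rfl
  have hST : IsScalarTower F E W := by
    constructor
    intro a b w
    rw [hsm, hsm]
    obtain ⟨g, rfl⟩ := AdjoinRoot.mk_surjective b
    have e1 : a • AdjoinRoot.mk f g = AdjoinRoot.mk f (a • g) := rfl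
    rw [e1, hφ, hφ, map_smul, LinearMap.smul_apply]
  have hfdE : FiniteDimensional F E := (AdjoinRoot.powerBasis hf.ne_zero).finite
  have hEfin : Finite E := Module.finite_of_finite F
  have hfW : FiniteDimensional E W := Module.Finite.of_restrictScalars_finite F E W
  have hdim : finrank F E * finrank E W = finrank F W := Module.finrank_mul_finrank F E W
  have hWne : ∃ w : W, w ≠ 0 := ⟨⟨u, hu⟩, fun h => hu0 (congrArg Subtype.val h)⟩
  -- the degree of `E`
  have hα : (AdjoinRoot.root f) ^ p = 1 ∧ AdjoinRoot.root f ≠ 1 := by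
    obtain ⟨k, hk⟩ := hfΦ
    have h0 : AdjoinRoot.mk f Φ = 0 := by rw [hk, map_mul, AdjoinRoot.mk_self, zero_mul]
    constructor
    · have h2 : AdjoinRoot.mk f (X ^ p - 1) = 0 := by rw [← hΦ, map_mul, h0, zero_mul]
      rw [map_sub, map_pow, AdjoinRoot.mk_X, map_one, sub_eq_zero] at h2
      exact h2
    · intro h
      have h2 : AdjoinRoot.mk f Φ = ((p : ℕ) : E) := by
        show AdjoinRoot.mk f (∑ i ∈ Finset.range p, X ^ i) = _
        rw [map_sum]
        simp only [map_pow, AdjoinRoot.mk_X, h, one_pow, Finset.sum_const, Finset.card_range, nsmul_eq_mul, mul_one]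
      rw [h0] at h2
      apply hpF
      apply (algebraMap F E).injective
      rw [map_natCast, map_zero]
      exact h2.symm
  have hdeg : orderOf ((Nat.card F : ℕ) : ZMod p) ≤ finrank F E := by
    have hpos : 0 < finrank F E := Module.finrank_pos
    refine Nat.le_of_dvd hpos ?_
    have h2 : orderOf (AdjoinRoot.root f) = p := orderOf_eq_prime hα.1 hα.2
    have hne : AdjoinRoot.root f ≠ 0 := by
      intro h
      have h3 := hα.1
      rw [h, zero_pow hp.out.ne_zero] at h3
      exact zero_ne_one h3
    have h3 : p ∣ Nat.card Eˣ := by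
      have h4 := orderOf_dvd_natCard (Units.mk0 (AdjoinRoot.root f) hne)
      rw [← orderOf_units, Units.val_mk0, h2] at h4
      exact h4
    rw [Nat.card_units, Module.natCard_eq_pow_finrank (K := F)] at h3
    rw [orderOf_dvd_iff_pow_eq_one, ← Nat.cast_pow, ← Nat.cast_one (R := ZMod p), ZMod.natCast_eq_natCast_iff,
      Nat.ModEq.comm, Nat.modEq_iff_dvd' (Nat.one_le_pow _ _ Nat.card_pos)]
    exact h3
  -- the representation over `E`
  have hcE : ∀ (x : R) (c : E) (w : W), (ρ x ((c • w : W) : V)) = ((c • (⟨ρ x w, hW x w w.2⟩ : W) : W) : V) := by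
    intro x c w
    obtain ⟨g, rfl⟩ := AdjoinRoot.mk_surjective c
    rw [hsm, hsm, hφ, coe_aeval_restrict hTW, coe_aeval_restrict hTW]
    have hcomm : Commute (ρ x) (aeval T g) := by
      refine Polynomial.induction_on' (motive := fun g => Commute (ρ x) (aeval T g)) g (fun a b ha hb => ?_) fun n a => ?_
      · show Commute (ρ x) (aeval T (a + b))
        rw [map_add]
        exact ha.add_right hb
      · show Commute (ρ x) (aeval T (monomial n a))
        rw [aeval_monomial]
        refine (Algebra.commute_algebraMap_right a (ρ x)).mul_right (Commute.pow_right ?_ n)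
        show ρ x * ρ z = ρ z * ρ x
        rw [← map_mul, ← map_mul, hzc]
    exact congrArg (fun L : Module.End F V => L (w : V)) hcomm.eq
  let σ : R →* Module.End E W :=
    { toFun := fun x =>
        { toFun := fun w => ⟨ρ x w, hW x w w.2⟩
          map_add' := fun a b => Subtype.ext (by
            show ρ x ((a : V) + b) = ρ x a + ρ x b
            rw [map_add])
          map_smul' := fun c w => Subtype.ext (hcE x c w) }
      map_one' := LinearMap.ext fun w => Subtype.ext (by
        show ρ 1 (w : V) = w
        rw [map_one]; rfl)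
      map_mul' := fun x y => LinearMap.ext fun w => Subtype.ext (by
        show ρ (x * y) (w : V) = ρ x (ρ y w)
        rw [map_mul]; rfl) }
  have hle : p ≤ finrank E W := by
    by_contra hlt
    push Not at hlt
    have hpE : (p : E) ≠ 0 := by
      intro h
      apply hpF
      apply (algebraMap F E).injective
      rw [map_natCast, map_zero]
      exact h
    have hker : commutator R ≤ σ.ker := commutator_le_ker hpE hR σ hlt
    have hz2 := MonoidHom.mem_ker.1 (hker hz.1)
    obtain ⟨w, hw⟩ := hWne
    have h3 : ρ z (w : V) = w := by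
      have h4 := congrArg (fun L : Module.End E W => ((L w : W) : V)) hz2
      exact h4
    exact hw (Subtype.ext (hfix w w.2 h3))
  calc p * orderOf ((Nat.card F : ℕ) : ZMod p) ≤ finrank E W * finrank F E := Nat.mul_le_mul hle hdeg
    _ = finrank F W := by rw [mul_comm, hdim]
    _ ≤ finrank F V := Submodule.finrank_le W

end main

end Cfsg.Agent.H965.XZ
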