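import Cfsg.Agent.H35.Poin

/-!
# Poincaré sums: one step of the parabolic chain for components of type `B_k` (helper965, for S4791 / S4927)

* `sum_diagram` : the step `W_J → W_{J \ {k}}` from a list of weights with their monomials;
* `BPath A J c k` : `c 0, …, c (k - 1)` is a component of type `B_k` or `C_k` of `J`, with simple end node `c 0`;
* `sum_bend` : `∑_{W_J} = (1 + y + … + y^(k-1)) (1 + y^(k-1) z) ∑_{W_{J \ {c 0}}}`;
* `sum_bpath` : `∑_{W_J} = ∏_{i < k} (1 + y + … + y^i) (1 + y^i z) ∑_{W_{J \ {c 0, …, c (k-1)}}}`.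
-/

set_option autoImplicit false
set_option linter.unusedSectionVars false

namespace Cfsg.Agent.H965.XZ

open CoxeterSystem Cfsg.Agent.ChevalleyStructure.CoxeterGeom Cfsg.Agent.Tits.Roots Cfsg.Agent.Tits.Core
  Cfsg.Agent.Tits.RootComb Cfsg.Agent.Tits.Exchange Cfsg.Agent.Nodes.Comb Cfsg.Agent.Nodes.Reps
  Cfsg.Agent.Nodes.BNOf Cfsg.Agent.Nodes.StabComb Cfsg.Agent.Nodes.Bruhat Cfsg.Agent.Nodes.OppDec
  Cfsg.Agent.Nodes.LeviDec Cfsg.Agent.Nodes.NormalForm Cfsg.Agent.ChevalleyStructure.WeylAbstract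
  Cfsg.Agent.H35.Poin

section Orbit

variable {ι Φ : Type*} [Fintype ι] [DecidableEq ι] (R : RData ι Φ)

/-- **The step of the parabolic chain from a diagram of weights.** -/
theorem sum_diagram [Finite Φ] [Fintype Φ] {S : Type*} [CommSemiring S] (x : Φ → S)
    (hx : ∀ i r, x (R.refl i r) = x r) (hxn : ∀ r, x (R.neg r) = x r) {J : Set ι} {k : ι} {N : ℕ}
    {μ : ℕ → ι → ℤ} {y : ℕ → S} (hN : 0 < N) (h0 : μ 0 = Pi.single k 1) (hy0 : y 0 = 1)
    (hstep : ∀ t < N, 0 < t → ∃ s < t, ∃ i ∈ J, 0 < μ s i ∧ μ t = R.act i (μ s) ∧ y t = x (R.simple i) * y s)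
    (hcl : ∀ t < N, ∀ j ∈ J, ∃ s < N, μ s = R.act j (μ t))
    (hinj : ∀ s < N, ∀ t < N, μ s = μ t → s = t) :
    ∑ᶠ w ∈ (R.W J : Set (Equiv.Perm Φ)), R.Q x w =
      (∑ t ∈ Finset.range N, y t) * ∑ᶠ v ∈ (R.W (J \ {k}) : Set (Equiv.Perm Φ)), R.Q x v := by
  classical
  have hall : ∀ t, t < N → R.Reach J k (μ t) ∧ R.Qw x (μ t) = y t := by
    intro t
    induction t using Nat.strong_induction_on with
    | _ t ih =>
      intro ht
      rcases Nat.eq_zero_or_pos t with rfl | h1
      · rw [h0]
        exact ⟨RData.Reach.base, by rw [Qw_single R x, hy0]⟩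
      · obtain ⟨s, hs, i, hi, h2, h3, h4⟩ := hstep t ht h1
        obtain ⟨h5, h6⟩ := ih s hs (by omega)
        rw [h3]
        refine ⟨RData.Reach.step _ _ hi h5, ?_⟩
        rw [Qw_act R x hx _ _ h2, h6, h4]
  rw [R.sum_step x hx hxn (J := J) (k := k) ((Finset.range N).image μ)]
  · congr 1
    rw [Finset.sum_image]
    · exact Finset.sum_congr rfl fun t ht => (hall t (Finset.mem_range.1 ht)).2
    · intro s hs t ht e
      rw [Finset.coe_range, Set.mem_Iio] at hs ht
      exact hinj s hs t ht e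
  · exact Finset.mem_image.2 ⟨0, Finset.mem_range.2 hN, h0⟩
  · intro m hm j hj
    obtain ⟨t, ht, rfl⟩ := Finset.mem_image.1 hm
    obtain ⟨s, hs, e⟩ := hcl t (Finset.mem_range.1 ht) j hj
    exact Finset.mem_image.2 ⟨s, Finset.mem_range.2 hs, e⟩
  · intro m hm
    obtain ⟨t, ht, rfl⟩ := Finset.mem_image.1 hm
    exact (hall t (Finset.mem_range.1 ht)).1

/-- a walk in the orbit: each weight has at most one positive and one negative coordinate in `J` -/
structure Walk (J : Set ι) (u : ℕ → ι) (n : ℕ) : Prop where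
  mem : ∀ t < n, u t ∈ J
  pos : ∀ t < n, 0 < mu R u t (u t)
  zero : ∀ t ≤ n, ∀ j ∈ J, (t < n → j ≠ u t) → (0 < t → j ≠ u (t - 1)) → mu R u t j = 0

variable {R} in
theorem Walk.inj [Finite Φ] {J : Set ι} {u : ℕ → ι} {n : ℕ} (hW : Walk R J u n) :
    ∀ s ≤ n, ∀ t ≤ n, mu R u s = mu R u t → s = t := by
  classical
  have : Fintype Φ := Fintype.ofFinite _
  have hQ : ∀ t ≤ n, R.Qw (fun _ => Multiplicative.ofAdd (1 : ℕ)) (mu R u t) = Multiplicative.ofAdd t := by
    intro t
    induction t with
    | zero => intro _; exact Qw_single R _ _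
    | succ t ih =>
      intro ht
      show R.Qw _ (R.act (u t) (mu R u t)) = _
      rw [Qw_act R _ (fun _ _ => rfl) _ _ (hW.pos t (by omega)), ih (by omega), ← ofAdd_add, add_comm]
  intro s hs t ht e
  have h1 := hQ s hs
  rw [e, hQ t ht] at h1
  exact (Multiplicative.ofAdd.injective h1).symm

theorem sum_walk [Finite Φ] [Fintype Φ] {S : Type*} [CommSemiring S] (x : Φ → S)
    (hx : ∀ i r, x (R.refl i r) = x r) (hxn : ∀ r, x (R.neg r) = x r) {J : Set ι} {u : ℕ → ι} {n : ℕ}
    (hW : Walk R J u n) :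
    ∑ᶠ w ∈ (R.W J : Set (Equiv.Perm Φ)), R.Q x w =
      (∑ t ∈ Finset.range (n + 1), ∏ s ∈ Finset.range t, x (R.simple (u s))) *
        ∑ᶠ v ∈ (R.W (J \ {u 0}) : Set (Equiv.Perm Φ)), R.Q x v := by
  refine sum_diagram R x hx hxn (μ := mu R u) (Nat.succ_pos n) rfl (Finset.prod_range_zero _) ?_ ?_ ?_
  · intro t ht h0
    refine ⟨t - 1, by omega, u (t - 1), hW.mem _ (by omega), hW.pos _ (by omega), ?_, ?_⟩
    · obtain ⟨s, rfl⟩ : ∃ s, t = s + 1 := ⟨t - 1, by omega⟩
      rfl
    · obtain ⟨s, rfl⟩ : ∃ s, t = s + 1 := ⟨t - 1, by omega⟩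
      rw [Finset.prod_range_succ, mul_comm, Nat.add_sub_cancel]
  · intro t ht j hj
    by_cases h1 : t < n ∧ j = u t
    · refine ⟨t + 1, by omega, ?_⟩
      rw [h1.2]; rfl
    · by_cases h2 : 0 < t ∧ j = u (t - 1)
      · refine ⟨t - 1, by omega, ?_⟩
        obtain ⟨s, rfl⟩ : ∃ s, t = s + 1 := ⟨t - 1, by omega⟩
        rw [Nat.add_sub_cancel] at h2 ⊢
        rw [h2.2]
        exact (act_act R _ _).symm
      · refine ⟨t, ht, (act_zero R (hW.zero t (by omega) j hj ?_ ?_)).symm⟩
        · intro h3 h4; exact h1 ⟨h3, h4⟩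
        · intro h3 h4; exact h2 ⟨h3, h4⟩
  · intro s hs t ht e
    exact hW.inj s (by omega) t (by omega) e

/-- `c 0, …, c (k - 1)` is a component of type `B_k` or `C_k` of `J`, with simple end node `c 0` -/
structure BPath (A : ι → ι → ℤ) (J : Set ι) (c : ℕ → ι) (k : ℕ) : Prop where
  mem : ∀ t < k, c t ∈ J
  adj : ∀ t, t + 2 < k → A (c t) (c (t + 1)) = -1 ∧ A (c (t + 1)) (c t) = -1
  last : ∀ t, t + 2 = k → (A (c t) (c (t + 1)) = -1 ∧ A (c (t + 1)) (c t) = -2) ∨
    (A (c t) (c (t + 1)) = -2 ∧ A (c (t + 1)) (c t) = -1)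
  far : ∀ s t, s + 1 < t → t < k → A (c s) (c t) = 0 ∧ A (c t) (c s) = 0
  out : ∀ j ∈ J, (∀ t < k, c t ≠ j) → ∀ t < k, A (c t) j = 0
  inj : ∀ s < k, ∀ t < k, c s = c t → s = t

/-- the walk there and back -/
def bk (c : ℕ → ι) (k t : ℕ) : ι := c (if t < k then t else 2 * k - 2 - t)

theorem bk_lt (c : ℕ → ι) {k t : ℕ} (h : t < k) : bk c k t = c t := by
  unfold bk; rw [if_pos h]

theorem bk_ge (c : ℕ → ι) {k t : ℕ} (h : k ≤ t) : bk c k t = c (2 * k - 2 - t) := by
  unfold bk; rw [if_neg (by omega)]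

section B

variable {R} {J : Set ι} {c : ℕ → ι} {k : ℕ} (hP : BPath R.A J c k)

theorem mu_succ (u : ℕ → ι) (t : ℕ) (j : ι) : mu R u (t + 1) j = mu R u t j - mu R u t (u t) * R.A (u t) j := rfl

include hP in
/-- the weights outside the path -/
theorem mu_out {j : ι} (hj : j ∈ J) (hc : ∀ t < k, c t ≠ j) (h0 : 0 < k) : ∀ t ≤ 2 * k - 1, mu R (bk c k) t j = 0 := by
  intro t
  induction t with
  | zero =>
    intro _
    show (Pi.single (bk c k 0) 1 : ι → ℤ) j = 0
    rw [bk_lt c h0, Pi.single_apply, if_neg]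
    exact fun e => hc 0 h0 e.symm
  | succ t ih =>
    intro ht
    rw [mu_succ, ih (by omega)]
    have h1 : R.A (bk c k t) j = 0 := by
      unfold bk
      exact hP.out j hj hc _ (by split_ifs <;> omega)
    rw [h1]
    ring

/-- the coordinate at the last node -/
def dd (A : ι → ι → ℤ) (c : ℕ → ι) (k : ℕ) : ℤ := if k = 1 then 1 else -A (c (k - 2)) (c (k - 1))

include hP in
theorem dd_pos (h0 : 0 < k) : 0 < dd R.A c k := by
  unfold dd
  split_ifs with h
  · exact one_pos
  · have e : k - 2 + 1 = k - 1 := by omega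
    rcases hP.last (k - 2) (by omega) with ⟨h1, -⟩ | ⟨h1, -⟩ <;> rw [e] at h1 <;> rw [h1] <;> norm_num

include hP in
/-- the way there -/
theorem mu_there (h0 : 0 < k) : ∀ t < k, ∀ s < k, mu R (bk c k) t (c s) =
    if s = t then (if t + 1 = k then dd R.A c k else 1) else if s + 1 = t then -1 else 0 := by
  intro t
  induction t with
  | zero =>
    intro _ s hs
    show (Pi.single (bk c k 0) 1 : ι → ℤ) (c s) = _
    rw [bk_lt c h0, Pi.single_apply]
    by_cases h : s = 0
    · subst h
      rw [if_pos rfl, if_pos rfl]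
      unfold dd
      by_cases hk : 0 + 1 = k
      · rw [if_pos hk, if_pos hk.symm]
      · rw [if_neg hk]
    · rw [if_neg (fun e => h (hP.inj s hs 0 h0 e)), if_neg h, if_neg (by omega)]
  | succ t ih =>
    intro ht s hs
    have h1 := ih (by omega)
    have hA : mu R (bk c k) t (c t) = 1 := by
      rw [h1 t (by omega), if_pos rfl, if_neg (by omega)]
    rw [mu_succ, bk_lt c (show t < k by omega), hA, h1 s hs, one_mul]
    rcases lt_trichotomy s t with hst | rfl | hst
    · rw [if_neg (by omega)]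
      by_cases h2 : s + 1 = t
      · subst h2
        rw [if_pos rfl, if_neg (by omega), if_neg (by omega), (hP.adj s (by omega)).2]
        norm_num
      · rw [if_neg h2, if_neg (by omega), if_neg (by omega), (hP.far s t (by omega) (by omega)).2]
        norm_num
    · rw [if_pos rfl, if_neg (by omega), if_neg (by omega), if_pos rfl, R.A_diag]
      norm_num
    · rw [if_neg (by omega), if_neg (by omega)]
      by_cases h2 : t + 1 = s
      · subst h2
        rw [if_pos rfl]
        by_cases h3 : t + 1 + 1 = k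
        · rw [if_pos h3]
          unfold dd
          rw [if_neg (by omega)]
          have e1 : k - 2 = t := by omega
          have e2 : k - 1 = t + 1 := by omega
          rw [e1, e2]
          ring
        · rw [if_neg h3, (hP.adj t (by omega)).1]
          norm_num
      · rw [if_neg (by omega), if_neg (by omega), (hP.far t s (by omega) hs).1]
        norm_num

include hP in
/-- the way back -/
theorem mu_back (h0 : 0 < k) : ∀ e < k, ∀ s < k, mu R (bk c k) (k + e) (c s) =
    if s + e + 2 = k then 1 else if s + e + 1 = k then (if e = 0 then -dd R.A c k else -1) else 0 := by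
  intro e
  induction e with
  | zero =>
    intro _ s hs
    have e1 : k + 0 = (k - 1) + 1 := by omega
    have hA : mu R (bk c k) (k - 1) (c (k - 1)) = dd R.A c k := by
      rw [mu_there hP h0 _ (by omega) _ (by omega), if_pos rfl, if_pos (by omega)]
    rw [e1, mu_succ, bk_lt c (show k - 1 < k by omega), hA]
    by_cases h1 : s = k - 1
    · rw [h1, hA, R.A_diag, if_neg (by omega), if_pos (by omega), if_pos rfl]
      ring
    · rw [mu_there hP h0 _ (by omega) s hs, if_neg h1]
      by_cases h2 : s + 1 = k - 1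
      · rw [if_pos h2, if_pos (by omega)]
        unfold dd
        rw [if_neg (by omega)]
        have e2 : k - 2 = s := by omega
        have e3 : k - 1 = s + 1 := by omega
        rw [e2, e3]
        rcases hP.last s (by omega) with ⟨h3, h4⟩ | ⟨h3, h4⟩ <;> rw [h3, h4] <;> norm_num
      · rw [if_neg h2, if_neg (by omega), if_neg (by omega), (hP.far s (k - 1) (by omega) (by omega)).2]
        norm_num
  | succ e ih =>
    intro he s hs
    have h1 := ih (by omega)
    have e1 : k + (e + 1) = (k + e) + 1 := by omega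
    have e2 : bk c k (k + e) = c (k - 2 - e) := by
      rw [bk_ge c (by omega)]
      congr 1
      omega
    rw [e1, mu_succ, e2, h1 (k - 2 - e) (by omega), h1 s hs, if_pos (show k - 2 - e + e + 2 = k by omega), one_mul]
    by_cases h2 : s + e + 2 = k
    · have e3 : k - 2 - e = s := by omega
      rw [if_pos h2, if_neg (show ¬ s + (e + 1) + 2 = k by omega), if_pos (show s + (e + 1) + 1 = k by omega),
        if_neg (show ¬ e + 1 = 0 by omega), e3, R.A_diag]
      norm_num
    · rw [if_neg h2]
      by_cases h3 : s + e + 1 = k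
      · rw [if_pos h3, if_neg (show ¬ s + (e + 1) + 2 = k by omega), if_neg (show ¬ s + (e + 1) + 1 = k by omega)]
        have e3 : k - 2 - e + 1 = s := by omega
        by_cases h4 : e = 0
        · subst h4
          rw [if_pos rfl]
          unfold dd
          rw [if_neg (by omega)]
          have e4 : k - 2 - 0 = k - 2 := by omega
          have e5 : s = k - 1 := by omega
          rw [e4, e5]
          ring
        · rw [if_neg h4]
          have h5 := (hP.adj (k - 2 - e) (by omega)).1
          rw [e3] at h5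
          rw [h5]
          norm_num
      · rw [if_neg h3, if_neg (show ¬ s + (e + 1) + 1 = k by omega)]
        by_cases h4 : s + (e + 1) + 2 = k
        · rw [if_pos h4]
          have e3 : k - 2 - e = s + 1 := by omega
          have h5 := hP.adj s (by omega)
          rw [e3, h5.2]
          norm_num
        · rw [if_neg h4]
          have h5 : R.A (c (k - 2 - e)) (c s) = 0 := by
            rcases Nat.lt_or_ge s (k - 2 - e) with h6 | h6
            · exact (hP.far s _ (by omega) (by omega)).2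
            · exact (hP.far _ s (by omega) (by omega)).1
          rw [h5]
          norm_num

include hP in
theorem walk_of_bpath (h0 : 0 < k) : Walk R J (bk c k) (2 * k - 1) where
  mem t ht := by
    unfold bk
    exact hP.mem _ (by split_ifs <;> omega)
  pos t ht := by
    rcases Nat.lt_or_ge t k with h | h
    · rw [bk_lt c h, mu_there hP h0 t h t h, if_pos rfl]
      split_ifs
      · exact dd_pos hP h0
      · exact one_pos
    · obtain ⟨e, rfl⟩ : ∃ e, t = k + e := ⟨t - k, by omega⟩
      rw [bk_ge c h, mu_back hP h0 e (by omega) _ (by omega), if_pos (by omega)]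
      exact one_pos
  zero t ht j hj h1 h2 := by
    by_cases hc : ∃ s < k, c s = j
    · obtain ⟨s, hs, rfl⟩ := hc
      rcases Nat.lt_or_ge t k with h | h
      · rw [mu_there hP h0 t h s hs, if_neg, if_neg]
        · rintro h3
          refine h2 (by omega) ?_
          rw [bk_lt c (by omega)]
          congr 1
          omega
        · rintro rfl
          exact h1 (by omega) (bk_lt c h).symm
      · obtain ⟨e, rfl⟩ : ∃ e, t = k + e := ⟨t - k, by omega⟩
        rw [mu_back hP h0 e (by omega) s hs, if_neg, if_neg]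
        · intro h3
          refine h2 (by omega) ?_
          unfold bk
          congr 1
          split_ifs <;> omega
        · intro h3
          refine h1 (by omega) ?_
          rw [bk_ge c h]
          congr 1
          omega
    · push Not at hc
      exact mu_out hP hj hc h0 t ht

/-- `1 + y + … + y ^ (n - 1)` -/
def gs {S : Type*} [CommSemiring S] (y : S) (n : ℕ) : S := ∑ t ∈ Finset.range n, y ^ t

variable {S : Type*} [CommSemiring S]

theorem prod_there (x : Φ → S) {y : S} (hy : ∀ t, t + 1 < k → x (R.simple (c t)) = y) :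
    ∀ t, t < k → ∏ s ∈ Finset.range t, x (R.simple (bk c k s)) = y ^ t := by
  intro t
  induction t with
  | zero => intro _; simp
  | succ t ih =>
    intro ht
    rw [Finset.prod_range_succ, ih (by omega), bk_lt c (by omega), hy t ht, pow_succ]

theorem prod_back (x : Φ → S) {y z : S} (hy : ∀ t, t + 1 < k → x (R.simple (c t)) = y)
    (hz : ∀ t, t + 1 = k → x (R.simple (c t)) = z) (h0 : 0 < k) :
    ∀ e, e < k → ∏ s ∈ Finset.range (k + e), x (R.simple (bk c k s)) = y ^ (k - 1) * z * y ^ e := by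
  intro e
  induction e with
  | zero =>
    intro _
    have e1 : k + 0 = (k - 1) + 1 := by omega
    rw [e1, Finset.prod_range_succ, prod_there x hy _ (by omega), bk_lt c (by omega), hz _ (by omega), pow_zero,
      mul_one]
  | succ e ih =>
    intro he
    rw [← add_assoc, Finset.prod_range_succ, ih (by omega), bk_ge c (by omega), hy _ (by omega), pow_succ, mul_assoc]

theorem sum_bk (x : Φ → S) {y z : S} (hy : ∀ t, t + 1 < k → x (R.simple (c t)) = y)
    (hz : ∀ t, t + 1 = k → x (R.simple (c t)) = z) (h0 : 0 < k) :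
    ∑ t ∈ Finset.range (2 * k - 1 + 1), ∏ s ∈ Finset.range t, x (R.simple (bk c k s)) =
      gs y k * (1 + y ^ (k - 1) * z) := by
  have e1 : 2 * k - 1 + 1 = k + k := by omega
  rw [e1, Finset.sum_range_add, mul_add, mul_one]
  congr 1
  · exact Finset.sum_congr rfl fun t ht => prod_there x hy t (Finset.mem_range.1 ht)
  · rw [gs, Finset.sum_mul]
    refine Finset.sum_congr rfl fun e he => ?_
    rw [prod_back x hy hz h0 e (Finset.mem_range.1 he)]
    ring

include hP in
theorem sum_bend [Finite Φ] [Fintype Φ] (x : Φ → S)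
    (hx : ∀ i r, x (R.refl i r) = x r) (hxn : ∀ r, x (R.neg r) = x r) {y z : S}
    (hy : ∀ t, t + 1 < k → x (R.simple (c t)) = y) (hz : ∀ t, t + 1 = k → x (R.simple (c t)) = z) (h0 : 0 < k) :
    ∑ᶠ w ∈ (R.W J : Set (Equiv.Perm Φ)), R.Q x w =
      gs y k * (1 + y ^ (k - 1) * z) * ∑ᶠ v ∈ (R.W (J \ {c 0}) : Set (Equiv.Perm Φ)), R.Q x v := by
  rw [sum_walk R x hx hxn (walk_of_bpath hP h0), sum_bk x hy hz h0, bk_lt c h0]

theorem BPath.tail {A : ι → ι → ℤ} {J : Set ι} {c : ℕ → ι} {k : ℕ} (hP : BPath A J c (k + 1)) :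
    BPath A (J \ {c 0}) (fun t => c (t + 1)) k where
  mem t ht := ⟨hP.mem _ (by omega), fun e => by
    have := hP.inj _ (by omega) _ (by omega) (Set.mem_singleton_iff.1 e)
    omega⟩
  adj t ht := hP.adj _ (by omega)
  last t ht := hP.last _ (by omega)
  far s t hs ht := hP.far _ _ (by omega) (by omega)
  out j hj hc t ht := hP.out j hj.1 (fun s hs e => by
    rcases Nat.eq_zero_or_pos s with rfl | h0
    · exact hj.2 (Set.mem_singleton_iff.2 e.symm)
    · refine hc (s - 1) (by omega) ?_
      rw [← e]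
      congr 1
      omega) _ (by omega)
  inj s hs t ht e := by
    have := hP.inj _ (by omega) _ (by omega) e
    omega

end B

theorem sum_bpath [Finite Φ] [Fintype Φ] {S : Type*} [CommSemiring S] (x : Φ → S)
    (hx : ∀ i r, x (R.refl i r) = x r) (hxn : ∀ r, x (R.neg r) = x r) {y z : S} :
    ∀ (k : ℕ) {J : Set ι} {c : ℕ → ι} (_ : BPath R.A J c k)
    (_ : ∀ t, t + 1 < k → x (R.simple (c t)) = y) (_ : ∀ t, t + 1 = k → x (R.simple (c t)) = z),
    ∑ᶠ w ∈ (R.W J : Set (Equiv.Perm Φ)), R.Q x w =
      (∏ i ∈ Finset.range k, gs y (i + 1) * (1 + y ^ i * z)) *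
        ∑ᶠ v ∈ (R.W (J \ {j | ∃ t < k, c t = j}) : Set (Equiv.Perm Φ)), R.Q x v := by
  intro k
  induction k with
  | zero =>
    intro J c _ _ _
    have : J \ {j | ∃ t < 0, c t = j} = J := by
      ext j; simp
    rw [this, Finset.prod_range_zero, one_mul]
  | succ k ih =>
    intro J c hP hy hz
    rw [sum_bend hP x hx hxn hy hz (by omega), ih hP.tail (fun t ht => hy (t + 1) (by omega))
      (fun t ht => hz (t + 1) (by omega)), Finset.prod_range_succ]
    have : (J \ {c 0}) \ {j | ∃ t < k, c (t + 1) = j} = J \ {j | ∃ t < k + 1, c t = j} := by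
      ext j
      simp only [Set.mem_sdiff, Set.mem_singleton_iff, Set.mem_ofPred_eq, not_exists, not_and]
      constructor
      · rintro ⟨⟨h1, h2⟩, h3⟩
        refine ⟨h1, fun t ht e => ?_⟩
        rcases Nat.eq_zero_or_pos t with rfl | h0
        · exact h2 e.symm
        · refine h3 (t - 1) (by omega) ?_
          rw [← e]
          congr 1
          omega
      · rintro ⟨h1, h2⟩
        exact ⟨⟨h1, fun e => h2 0 (by omega) e.symm⟩, fun t ht => h2 (t + 1) (by omega)⟩
    rw [this, Nat.add_sub_cancel]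
    ring

end Orbit

/-! ### Parabolic subgroups -/

section Par

variable {I W Y : Type*} [Fintype I] [DecidableEq I] [Group W] [Group Y] {M : CoxeterMatrix I}
  {cs : CoxeterSystem M W} {A : I → I → ℤ} {h : IsCartan M A} {p : ℕ} {T : Subgroup Y} {n : I → Y}
  {X : (I → ℤ) → Subgroup Y} (R : RGD cs h p T n X)

include R

/-- **The order of a parabolic subgroup: a component of type `B_k`.** -/
theorem card_PJ_bpath [Finite W] [Finite Y] {J : Set I} {c : ℕ → I} {k y z : ℕ} (hP : BPath A J c k)
    (hy : ∀ t, t + 1 < k → Nat.card (X (sr (c t))) = y) (hz : ∀ t, t + 1 = k → Nat.card (X (sr (c t))) = z) :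
    Nat.card ↥(PJ cs h T X J) = (∏ i ∈ Finset.range k, gs y (i + 1) * (1 + y ^ i * z)) *
      Nat.card ↥(PJ cs h T X (J \ {j | ∃ t < k, c t = j})) := by
  classical
  have : Finite (Rt cs h) := finite_rt cs h
  have : Fintype (Rt cs h) := Fintype.ofFinite _
  rw [card_PJ_sum R J, card_PJ_sum R, sum_bpath (rdata cs h) (fun r => Nat.card (X r.1)) ?_ ?_ k hP hy hz]
  · ring
  · intro i r
    exact Cfsg.Agent.Nodes.CardSup.card_X_rep R _ r.2
  · intro r
    exact card_X_neg R r.2

end Par

end Cfsg.Agent.H965.XZ
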