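import Cfsg.Agent.H965.XZ.WalkD
import Cfsg.Agent.H965.XZ.IdxB
import Cfsg.Agent.Nodes.TypeD

/-!
# The index of the parabolic subgroups in type `D_m` (helper965, for S4791 / S4927)

`S` a finite group generated by a root group datum of type `Nodes.TypeD.M n`, `m = n + 2`, `|X_i| = y`. The nodes are
`0 - 1 - … - (m - 3) - (m - 2)`, and `m - 1` joined to `m - 3`.

* `card_PJ_dpath` : one step of the chain for a component of type `D`;
* `index_D` : `P_a := P_{I - {a - 1}}`, `1 ≤ a ≤ m - 2` : `|S : P_a| ∏_{i < a} [i+1] = ∏_{i < a} [m-a+i+1] (1 + y^(m-a+i))`;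
* `index_spin`, `index_spin'` : `|S : P_{I - {m - 1}}| = |S : P_{I - {m - 2}}| = ∏_{i < m - 1} (1 + y^(i+1))`;
* `dvd_index_D_all` : `p` divides the index of every `P_J` such that a node `j` with `v ≤ j` or `m - 2 ≤ j` is not in `J`;
* `wit_plus` : the hypotheses of `dvd_index_D_all` for `PΩ⁺_{2m}(q)`, `ord_p(q) = 2 d`, `v = wp m d`.
-/

set_option autoImplicit false
set_option linter.unusedSectionVars false

namespace Cfsg.Agent.H965.XZ

open CoxeterSystem Cfsg.Agent.ChevalleyStructure.CoxeterGeom Cfsg.Agent.Tits.Roots Cfsg.Agent.Tits.Core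
  Cfsg.Agent.Tits.RootComb Cfsg.Agent.Tits.Exchange Cfsg.Agent.Nodes.Comb Cfsg.Agent.Nodes.Reps
  Cfsg.Agent.Nodes.BNOf Cfsg.Agent.Nodes.StabComb Cfsg.Agent.Nodes.Bruhat Cfsg.Agent.Nodes.OppDec
  Cfsg.Agent.Nodes.LeviDec Cfsg.Agent.Nodes.NormalForm Cfsg.Agent.ChevalleyStructure.WeylAbstract
  Cfsg.Agent.H35.Poin

section Par

variable {I W Y : Type*} [Fintype I] [DecidableEq I] [Group W] [Group Y] {M : CoxeterMatrix I}
  {cs : CoxeterSystem M W} {A : I → I → ℤ} {h : IsCartan M A} {p : ℕ} {T : Subgroup Y} {n : I → Y}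
  {X : (I → ℤ) → Subgroup Y} (R : RGD cs h p T n X)

include R

/-- **The order of a parabolic subgroup: one step in a component of type `D_{l+3}`.** -/
theorem card_PJ_dpath [Finite W] [Finite Y] {J : Set I} {c : ℕ → I} {l y : ℕ} (hP : DPath A J c l)
    (hy : ∀ t < l + 3, Nat.card (X (sr (c t))) = y) :
    Nat.card ↥(PJ cs h T X J) = gs y (l + 3) * (1 + y ^ (l + 2)) * Nat.card ↥(PJ cs h T X (J \ {c 0})) := by
  classical
  have : Finite (Rt cs h) := finite_rt cs h
  have : Fintype (Rt cs h) := Fintype.ofFinite _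
  rw [card_PJ_sum R J, card_PJ_sum R, sum_dend (R := rdata cs h) (fun r => Nat.card (X r.1)) ?_ ?_ hP hy]
  · ring
  · intro i r
    exact Cfsg.Agent.Nodes.CardSup.card_X_rep R _ r.2
  · intro r
    exact card_X_neg R r.2

end Par

/-! ### The Coxeter matrix of type `D_m` -/

section Cartan

variable {n : ℕ} {A : Fin (n + 2) → Fin (n + 2) → ℤ} (h : IsCartan (Cfsg.Agent.Nodes.TypeD.M n) A)

include h

theorem cartD_adj {i j : Fin (n + 2)} (hij : Cfsg.Agent.Nodes.TypeD.Adj i j) : A i j = -1 ∧ A j i = -1 := by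
  have hne : i ≠ j := by
    rintro rfl
    rcases hij with ⟨-, h1⟩ | ⟨-, h1⟩ <;> omega
  have h1 := h.rel i j hne
  rw [Cfsg.Agent.Nodes.TypeD.M_apply, if_neg hne, if_pos (Or.inl hij)] at h1
  rcases h1 with h1 | h1 | h1 | h1
  · omega
  · exact h1.2
  · omega
  · omega

theorem cartD_far {i j : Fin (n + 2)} (hne : i ≠ j) (hij : ¬ Cfsg.Agent.Nodes.TypeD.Adj i j)
    (hji : ¬ Cfsg.Agent.Nodes.TypeD.Adj j i) : A i j = 0 ∧ A j i = 0 := by
  have h1 := h.rel i j hne
  rw [Cfsg.Agent.Nodes.TypeD.M_apply, if_neg hne, if_neg (by tauto)] at h1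
  rcases h1 with h1 | h1 | h1 | h1
  · exact h1.2
  · omega
  · omega
  · omega

/-- the tail of the diagram -/
theorem dpath_tail {l : ℕ} (hl : l + 3 ≤ n + 2) {J : Set (Fin (n + 2))}
    (hJ : ∀ j : Fin (n + 2), j ∈ J ↔ n + 2 - (l + 3) ≤ (j : ℕ)) :
    DPath A J (fun t => nd (Nat.succ_pos (n + 1)) (n + 2 - (l + 3) + t)) l := by
  have hv : ∀ t, t < l + 3 → ((nd (Nat.succ_pos (n + 1)) (n + 2 - (l + 3) + t) : Fin (n + 2)) : ℕ) =
      n + 2 - (l + 3) + t := fun t ht => nd_val _ (by omega)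
  constructor
  · intro t ht
    rw [hJ, hv t ht]
    omega
  · intro t ht
    refine cartD_adj h (Or.inl ?_)
    rw [hv _ (by omega), hv _ (by omega)]
    omega
  · refine cartD_adj h (Or.inr ?_)
    rw [hv _ (by omega), hv _ (by omega)]
    omega
  · intro s t hst ht
    refine cartD_far h (fun e => ?_) ?_ ?_
    · have := congrArg Fin.val e
      rw [hv _ (by omega), hv _ (by omega)] at this
      omega
    · unfold Cfsg.Agent.Nodes.TypeD.Adj
      rw [hv _ (by omega), hv _ (by omega)]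
      omega
    · unfold Cfsg.Agent.Nodes.TypeD.Adj
      rw [hv _ (by omega), hv _ (by omega)]
      omega
  · intro s hs
    refine cartD_far h (fun e => ?_) ?_ ?_
    · have := congrArg Fin.val e
      rw [hv _ (by omega), hv _ (by omega)] at this
      omega
    · unfold Cfsg.Agent.Nodes.TypeD.Adj
      rw [hv _ (by omega), hv _ (by omega)]
      omega
    · unfold Cfsg.Agent.Nodes.TypeD.Adj
      rw [hv _ (by omega), hv _ (by omega)]
      omega
  · refine cartD_far h (fun e => ?_) ?_ ?_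
    · have := congrArg Fin.val e
      rw [hv _ (by omega), hv _ (by omega)] at this
      omega
    · unfold Cfsg.Agent.Nodes.TypeD.Adj
      rw [hv _ (by omega), hv _ (by omega)]
      omega
    · unfold Cfsg.Agent.Nodes.TypeD.Adj
      rw [hv _ (by omega), hv _ (by omega)]
      omega
  · intro j hj hc t ht
    exfalso
    have h1 := (hJ j).1 hj
    have h2 := j.2
    refine hc ((j : ℕ) - (n + 2 - (l + 3))) (by omega) (Fin.ext ?_)
    rw [hv _ (by omega)]
    omega
  · intro s hs t ht e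
    have := congrArg Fin.val e
    rw [hv _ (by omega), hv _ (by omega)] at this
    omega

/-- the head of the diagram, the nodes `0, …, a - 2` of `I - {a - 1}`, `a ≤ m - 2` -/
theorem apath_headD {a : ℕ} (ha : a ≤ n) :
    APath A {j : Fin (n + 2) | (j : ℕ) + 1 ≠ a} (nd (Nat.succ_pos (n + 1))) (a - 1) := by
  have hv : ∀ t, t < a - 1 → ((nd (Nat.succ_pos (n + 1)) t : Fin (n + 2)) : ℕ) = t := fun t ht => nd_val _ (by omega)
  constructor
  · intro t ht
    show ((nd (Nat.succ_pos (n + 1)) t : Fin (n + 2)) : ℕ) + 1 ≠ a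
    rw [hv t ht]
    omega
  · intro t ht
    refine cartD_adj h (Or.inl ?_)
    rw [hv _ (by omega), hv _ (by omega)]
    omega
  · intro s t hst ht
    refine cartD_far h (fun e => ?_) ?_ ?_
    · have := congrArg Fin.val e
      rw [hv _ (by omega), hv _ (by omega)] at this
      omega
    · unfold Cfsg.Agent.Nodes.TypeD.Adj
      rw [hv _ (by omega), hv _ (by omega)]
      omega
    · unfold Cfsg.Agent.Nodes.TypeD.Adj
      rw [hv _ (by omega), hv _ (by omega)]
      omega
  · intro j hj hc t ht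
    have h1 : (j : ℕ) + 1 ≠ a := hj
    have h2 : a ≤ (j : ℕ) := by
      by_contra h3
      push Not at h3
      exact hc j (by omega) (Fin.ext (nd_val _ (by omega)))
    refine (cartD_far h (fun e => ?_) ?_ ?_).1
    · have := congrArg Fin.val e
      rw [hv _ (by omega)] at this
      omega
    · unfold Cfsg.Agent.Nodes.TypeD.Adj
      rw [hv _ (by omega)]
      omega
    · unfold Cfsg.Agent.Nodes.TypeD.Adj
      rw [hv _ (by omega)]
      omega
  · intro s hs t ht e
    have := congrArg Fin.val e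
    rwa [hv _ (by omega), hv _ (by omega)] at this

/-- the nodes `0, …, m - 2` -/
theorem apath_spin : APath A {j : Fin (n + 2) | (j : ℕ) + 1 ≠ n + 2} (nd (Nat.succ_pos (n + 1))) (n + 1) := by
  have hv : ∀ t, t < n + 1 → ((nd (Nat.succ_pos (n + 1)) t : Fin (n + 2)) : ℕ) = t := fun t ht => nd_val _ (by omega)
  constructor
  · intro t ht
    show ((nd (Nat.succ_pos (n + 1)) t : Fin (n + 2)) : ℕ) + 1 ≠ n + 2
    rw [hv t ht]
    omega
  · intro t ht
    refine cartD_adj h (Or.inl ?_)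
    rw [hv _ (by omega), hv _ (by omega)]
    omega
  · intro s t hst ht
    refine cartD_far h (fun e => ?_) ?_ ?_
    · have := congrArg Fin.val e
      rw [hv _ (by omega), hv _ (by omega)] at this
      omega
    · unfold Cfsg.Agent.Nodes.TypeD.Adj
      rw [hv _ (by omega), hv _ (by omega)]
      omega
    · unfold Cfsg.Agent.Nodes.TypeD.Adj
      rw [hv _ (by omega), hv _ (by omega)]
      omega
  · intro j hj hc t ht
    exfalso
    have h1 : (j : ℕ) + 1 ≠ n + 2 := hj
    have h2 := j.2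
    exact hc j (by omega) (Fin.ext (nd_val _ (by omega)))
  · intro s hs t ht e
    have := congrArg Fin.val e
    rwa [hv _ (by omega), hv _ (by omega)] at this

/-- the nodes `0, …, m - 3, m - 1` -/
def ndS (n t : ℕ) : Fin (n + 2) := nd (Nat.succ_pos (n + 1)) (if t = n then n + 1 else t)

omit h in
theorem ndS_val {t : ℕ} (ht : t < n + 1) : (ndS n t : ℕ) = if t = n then n + 1 else t := by
  unfold ndS
  exact nd_val _ (by split_ifs <;> omega)

theorem apath_spin' : APath A {j : Fin (n + 2) | (j : ℕ) ≠ n} (ndS n) (n + 1) := by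
  constructor
  · intro t ht
    show (ndS n t : ℕ) ≠ n
    rw [ndS_val ht]
    split_ifs <;> omega
  · intro t ht
    refine cartD_adj h ?_
    unfold Cfsg.Agent.Nodes.TypeD.Adj
    rw [ndS_val (by omega), ndS_val (by omega)]
    split_ifs <;> omega
  · intro s t hst ht
    refine cartD_far h (fun e => ?_) ?_ ?_
    · have := congrArg Fin.val e
      rw [ndS_val (by omega), ndS_val (by omega)] at this
      split_ifs at this <;> omega
    · unfold Cfsg.Agent.Nodes.TypeD.Adj
      rw [ndS_val (by omega), ndS_val (by omega)]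
      split_ifs <;> omega
    · unfold Cfsg.Agent.Nodes.TypeD.Adj
      rw [ndS_val (by omega), ndS_val (by omega)]
      split_ifs <;> omega
  · intro j hj hc t ht
    exfalso
    have h1 : (j : ℕ) ≠ n := hj
    have h2 := j.2
    rcases Nat.lt_or_ge (j : ℕ) n with h3 | h3
    · refine hc j (by omega) (Fin.ext ?_)
      rw [ndS_val (by omega), if_neg (by omega)]
    · refine hc n (by omega) (Fin.ext ?_)
      rw [ndS_val (by omega), if_pos rfl]
      omega
  · intro s hs t ht e
    have := congrArg Fin.val e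
    rw [ndS_val (by omega), ndS_val (by omega)] at this
    split_ifs at this <;> omega

end Cartan

/-- the Poincaré polynomial of `D_k`, `2 ≤ k` -/
def TD (y k : ℕ) : ℕ := (∏ i ∈ Finset.range k, gs y (i + 1)) * ∏ i ∈ Finset.range (k - 1), (1 + y ^ (i + 1))

theorem TD_succ (y k : ℕ) : TD y (k + 3) = gs y (k + 3) * (1 + y ^ (k + 2)) * TD y (k + 2) := by
  unfold TD
  have e1 : k + 3 - 1 = (k + 1) + 1 := by omega
  have e2 : k + 2 - 1 = k + 1 := by omega
  rw [e1, e2, Finset.prod_range_succ _ (k + 1), Finset.prod_range_succ _ (k + 2)]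
  have e3 : k + 2 + 1 = k + 3 := by omega
  have e4 : k + 1 + 1 = k + 2 := by omega
  rw [e3, e4]
  ring

theorem TD_pos (y k : ℕ) : 0 < TD y k :=
  Nat.mul_pos (Finset.prod_pos fun i _ => gs_pos y i) (Finset.prod_pos fun i _ => by positivity)

theorem TD_add (y : ℕ) {k : ℕ} (hk : 2 ≤ k) (a : ℕ) :
    TD y (k + a) = TD y k * ∏ i ∈ Finset.range a, gs y (k + i + 1) * (1 + y ^ (k + i)) := by
  induction a with
  | zero => simp
  | succ a ih =>
    obtain ⟨k', rfl⟩ : ∃ k', k = k' + 2 := ⟨k - 2, by omega⟩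
    have e1 : k' + 2 + (a + 1) = (k' + a) + 3 := by omega
    have e2 : k' + a + 2 = k' + 2 + a := by omega
    rw [e1, TD_succ, e2, ih, Finset.prod_range_succ]
    have e3 : k' + a + 3 = k' + 2 + a + 1 := by omega
    rw [e3]
    ring

/-! ### The index -/

section Index

variable {n : ℕ} {W Y : Type*} [Group W] [Group Y] {cs : CoxeterSystem (Cfsg.Agent.Nodes.TypeD.M n) W}
  {A : Fin (n + 2) → Fin (n + 2) → ℤ} {h : IsCartan (Cfsg.Agent.Nodes.TypeD.M n) A} {r : ℕ} {T : Subgroup Y}
  {n' : Fin (n + 2) → Y} {X : (Fin (n + 2) → ℤ) → Subgroup Y} (R : RGD cs h r T n' X)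

include R

theorem card_tailD [Finite W] [Finite Y] {y : ℕ} (hy : ∀ i : Fin (n + 2), Nat.card (X (sr i)) = y) :
    ∀ k, k + 2 ≤ n + 2 → ∀ J : Set (Fin (n + 2)), (∀ j : Fin (n + 2), j ∈ J ↔ n + 2 - (k + 2) ≤ (j : ℕ)) →
    Nat.card ↥(PJ cs h T X J) = TD y (k + 2) * Nat.card ↥(RGD.B cs h T X) := by
  intro k
  induction k with
  | zero =>
    intro hk J hJ
    -- two isolated nodes
    have hstep : ∀ (J' : Set (Fin (n + 2))) (i : Fin (n + 2)), i ∈ J' → (∀ j ∈ J', n ≤ (j : ℕ)) →
        Nat.card ↥(PJ cs h T X J') = (1 + y) * Nat.card ↥(PJ cs h T X (J' \ {i})) := by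
      intro J' i hi hJ'
      have hP : APath A J' (fun _ => i) 1 := by
        constructor
        · intro t _; exact hi
        · intro t ht; omega
        · intro s t hs ht; omega
        · intro j hj hc t _
          have hne : i ≠ j := hc 0 Nat.one_pos
          have h1 := hJ' i hi
          have h2 := hJ' j hj
          have h3 := i.2
          have h4 := j.2
          refine (cartD_far h hne ?_ ?_).1 <;>
          · unfold Cfsg.Agent.Nodes.TypeD.Adj
            omega
        · intro s hs t ht _; omega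
      rw [card_PJ_path R hP (y := y) (fun t _ => hy i)]
      have e1 : {j : Fin (n + 2) | ∃ t < 1, i = j} = {i} := by
        ext j
        simp only [Set.mem_ofPred_eq, Set.mem_singleton_iff]
        exact ⟨fun ⟨_, _, e⟩ => e.symm, fun e => ⟨0, Nat.one_pos, e.symm⟩⟩
      rw [e1]
      congr 1
      simp [Finset.sum_range_succ]
    have hm : 0 < n + 2 := by omega
    have h1 : ((nd hm n : Fin (n + 2)) : ℕ) = n := nd_val _ (by omega)
    have h2 : ((nd hm (n + 1) : Fin (n + 2)) : ℕ) = n + 1 := nd_val _ (by omega)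
    rw [hstep J (nd hm n) ((hJ _).2 (by rw [h1]; omega)) (fun j hj => by have := (hJ j).1 hj; omega),
      hstep (J \ {nd hm n}) (nd hm (n + 1)) ⟨(hJ _).2 (by rw [h2]; omega), fun e => by
        have := congrArg Fin.val (Set.mem_singleton_iff.1 e)
        rw [h1, h2] at this
        omega⟩ (fun j hj => by have := (hJ j).1 hj.1; omega)]
    have e0 : (J \ {nd hm n}) \ {nd hm (n + 1)} = ∅ := by
      rw [Set.eq_empty_iff_forall_notMem]
      rintro j ⟨⟨h3, h4⟩, h5⟩
      have h6 := (hJ j).1 h3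
      have h7 := j.2
      have h8 : (j : ℕ) ≠ n := fun e => h4 (Set.mem_singleton_iff.2 (Fin.ext (by rw [h1, e])))
      exact h5 (Set.mem_singleton_iff.2 (Fin.ext (by rw [h2]; omega)))
    rw [e0, PJ_empty]
    have e5 : TD y (0 + 2) = (1 + y) * (1 + y) := by
      unfold TD gs
      simp [Finset.prod_range_succ, Finset.sum_range_succ]
    rw [e5]
    ring
  | succ k ih =>
    intro hk J hJ
    rw [card_PJ_dpath R (dpath_tail h (l := k) (by omega) (J := J) (fun j => by rw [hJ j])) (fun t _ => hy _),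
      ih (by omega), TD_succ]
    · ring
    · intro j
      have hm : 0 < n + 2 := by omega
      have h1 : ((nd hm (n + 2 - (k + 3) + 0) : Fin (n + 2)) : ℕ) = n + 2 - (k + 3) := by
        rw [add_zero]; exact nd_val _ (by omega)
      simp only [Set.mem_sdiff, Set.mem_singleton_iff, hJ]
      constructor
      · rintro ⟨h2, h3⟩
        have h4 : (j : ℕ) ≠ n + 2 - (k + 3) := fun e => h3 (Fin.ext (by rw [h1, e]))
        omega
      · intro h2
        refine ⟨by omega, fun e => ?_⟩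
        have := congrArg Fin.val e
        rw [h1] at this
        omega

/-- the order of `P_a` -/
theorem card_PJ_D [Finite W] [Finite Y] {y : ℕ} (hy : ∀ i : Fin (n + 2), Nat.card (X (sr i)) = y) {a : ℕ} (ha : 1 ≤ a)
    (ham : a ≤ n) : Nat.card ↥(PJ cs h T X {j | (j : ℕ) + 1 ≠ a}) =
      (∏ i ∈ Finset.range a, gs y (i + 1)) * TD y (n + 2 - a) * Nat.card ↥(RGD.B cs h T X) := by
  have hm : 0 < n + 2 := by omega
  have e0 : n + 2 - a = (n - a) + 2 := by omega
  rw [card_PJ_path R (apath_headD h ham) (y := y) (fun t _ => hy _), e0, card_tailD R hy (n - a) (by omega)]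
  · have h1 : ∏ i ∈ Finset.range a, gs y (i + 1) = ∏ i ∈ Finset.range (a - 1), ∑ t ∈ Finset.range (i + 2), y ^ t := by
      obtain ⟨b, rfl⟩ : ∃ b, a = b + 1 := ⟨a - 1, by omega⟩
      rw [Finset.prod_range_succ', Nat.add_sub_cancel]
      have h2 : gs y (0 + 1) = 1 := by simp [gs]
      rw [h2, mul_one]
      rfl
    rw [h1]
    ring
  · intro j
    have e : n + 2 - (n - a + 2) = a := by omega
    rw [e]
    simp only [Set.mem_sdiff, Set.mem_ofPred_eq, not_exists, not_and]
    constructor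
    · rintro ⟨h1, h2⟩
      by_contra h3
      push Not at h3
      have := j.2
      exact h2 j (by omega) (Fin.ext (nd_val hm (by omega)))
    · intro h1
      refine ⟨by omega, fun t ht e => ?_⟩
      rw [← e, nd_val hm (by omega)] at h1
      omega

/-- the order of `S` -/
theorem card_top_D [Finite W] [Finite Y] (hG : GG cs h T X = ⊤) {y : ℕ}
    (hy : ∀ i : Fin (n + 2), Nat.card (X (sr i)) = y) :
    Nat.card Y = TD y (n + 2) * Nat.card ↥(RGD.B cs h T X) := by
  rw [← card_tailD R hy n le_rfl Set.univ (fun j => by simp), Cfsg.Agent.H554.RG.PJ_univ R hG]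
  exact (Subgroup.card_top).symm

/-- **The index of `P_a`.** -/
theorem index_D [Finite W] [Finite Y] (hG : GG cs h T X = ⊤) {y : ℕ}
    (hy : ∀ i : Fin (n + 2), Nat.card (X (sr i)) = y) {a : ℕ} (ha : 1 ≤ a) (ham : a ≤ n) :
    (PJ cs h T X {j | (j : ℕ) + 1 ≠ a}).index * ∏ i ∈ Finset.range a, gs y (i + 1) =
      ∏ i ∈ Finset.range a, gs y (n + 2 - a + i + 1) * (1 + y ^ (n + 2 - a + i)) := by
  have h1 := (PJ cs h T X {j | (j : ℕ) + 1 ≠ a}).index_mul_card
  rw [card_PJ_D R hy ha ham, card_top_D R hG hy] at h1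
  have e : n + 2 = (n + 2 - a) + a := by omega
  have h2 : TD y (n + 2) = TD y (n + 2 - a) *
      ∏ i ∈ Finset.range a, gs y (n + 2 - a + i + 1) * (1 + y ^ (n + 2 - a + i)) := by
    rw [← TD_add y (by omega) a, ← e]
  rw [h2] at h1
  have h3 : 0 < Nat.card ↥(RGD.B cs h T X) := Nat.card_pos
  refine Nat.eq_of_mul_eq_mul_left (TD_pos y (n + 2 - a)) (Nat.eq_of_mul_eq_mul_right h3 ?_)
  rw [← h1]
  ring

/-- the order of the parabolic subgroup `P_J` of a path with `m - 1` nodes -/
theorem index_of_path [Finite W] [Finite Y] (hG : GG cs h T X = ⊤) {y : ℕ}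
    (hy : ∀ i : Fin (n + 2), Nat.card (X (sr i)) = y) {J : Set (Fin (n + 2))} {c : ℕ → Fin (n + 2)}
    (hP : APath A J c (n + 1)) (hJ : ∀ j ∈ J, ∃ t < n + 1, c t = j) :
    (PJ cs h T X J).index = ∏ i ∈ Finset.range (n + 1), (1 + y ^ (i + 1)) := by
  have h1 := (PJ cs h T X J).index_mul_card
  have h0 : J \ {j | ∃ t < n + 1, c t = j} = ∅ := by
    rw [Set.eq_empty_iff_forall_notMem]
    rintro j ⟨h2, h3⟩
    exact h3 (hJ j h2)
  rw [card_top_D R hG hy, card_PJ_path R hP (y := y) (fun t _ => hy _), h0, PJ_empty] at h1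
  unfold TD at h1
  have h2 : ∏ i ∈ Finset.range (n + 2), gs y (i + 1) = ∏ i ∈ Finset.range (n + 1), ∑ t ∈ Finset.range (i + 2), y ^ t := by
    rw [Finset.prod_range_succ']
    have h2 : gs y (0 + 1) = 1 := by simp [gs]
    rw [h2, mul_one]
    rfl
  have e : n + 2 - 1 = n + 1 := by omega
  rw [← h2, e] at h1
  have h3 : 0 < Nat.card ↥(RGD.B cs h T X) := Nat.card_pos
  have h4 : 0 < ∏ i ∈ Finset.range (n + 2), gs y (i + 1) := Finset.prod_pos fun i _ => gs_pos y i
  refine Nat.eq_of_mul_eq_mul_left h4 (Nat.eq_of_mul_eq_mul_right h3 ?_)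
  rw [← h1]
  ring

/-- **The index of the first spin parabolic subgroup.** -/
theorem index_spin [Finite W] [Finite Y] (hG : GG cs h T X = ⊤) {y : ℕ}
    (hy : ∀ i : Fin (n + 2), Nat.card (X (sr i)) = y) :
    (PJ cs h T X {j | (j : ℕ) + 1 ≠ n + 2}).index = ∏ i ∈ Finset.range (n + 1), (1 + y ^ (i + 1)) := by
  refine index_of_path R hG hy (apath_spin h) fun j hj => ?_
  have h1 : (j : ℕ) + 1 ≠ n + 2 := hj
  have h2 := j.2
  exact ⟨j, by omega, Fin.ext (nd_val _ h2)⟩

/-- **The index of the second spin parabolic subgroup.** -/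
theorem index_spin' [Finite W] [Finite Y] (hG : GG cs h T X = ⊤) {y : ℕ}
    (hy : ∀ i : Fin (n + 2), Nat.card (X (sr i)) = y) :
    (PJ cs h T X {j | (j : ℕ) ≠ n}).index = ∏ i ∈ Finset.range (n + 1), (1 + y ^ (i + 1)) := by
  refine index_of_path R hG hy (apath_spin' h) fun j hj => ?_
  have h1 : (j : ℕ) ≠ n := hj
  have h2 := j.2
  rcases Nat.lt_or_ge (j : ℕ) n with h3 | h3
  · exact ⟨j, by omega, Fin.ext (by rw [ndS_val (by omega), if_neg (by omega)])⟩
  · exact ⟨n, by omega, Fin.ext (by rw [ndS_val (by omega), if_pos rfl]; omega)⟩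

end Index

/-! ### Divisibility: arithmetic -/

section Arith

/-- a prime divisor of one of the factors `1 + y^i z` -/
theorem dvd_num_of {m a N y z : ℕ} (ham : a ≤ m)
    (hN : N * ∏ i ∈ Finset.range a, gs y (i + 1) = ∏ i ∈ Finset.range a, gs y (m - a + i + 1) * (1 + y ^ (m - a + i) * z))
    {p i : ℕ} (hi : m - a ≤ i) (him : i < m) (hp : p ∣ 1 + y ^ i * z) : p ∣ N := by
  obtain ⟨g, hg⟩ := exists_gauss y a (m - a)
  rw [Finset.prod_mul_distrib, ← hg] at hN
  have h4 : 0 < ∏ i ∈ Finset.range a, gs y (i + 1) := Finset.prod_pos fun i _ => gs_pos y i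
  have h1 : N = g * ∏ i ∈ Finset.range a, (1 + y ^ (m - a + i) * z) := by
    refine Nat.eq_of_mul_eq_mul_right h4 ?_
    rw [hN]
    ring
  rw [h1]
  refine Dvd.dvd.mul_left (hp.trans ?_) g
  have e : i = m - a + (i - (m - a)) := by omega
  rw [e]
  exact Finset.dvd_prod_of_mem (fun j => 1 + y ^ (m - a + j) * z) (Finset.mem_range.2 (by omega))

theorem dvd_num {m a N y z : ℕ} (ham : a ≤ m)
    (hN : N * ∏ i ∈ Finset.range a, gs y (i + 1) = ∏ i ∈ Finset.range a, gs y (m - a + i + 1) * (1 + y ^ (m - a + i) * z))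
    {p : ℕ} [hp : Fact p.Prime] {c : ℕ} (hc : p ∣ 1 + y ^ c * z) {i : ℕ} (hi : m - a ≤ i) (him : i < m)
    (hd : p ∣ gs y (i + 1) * (1 + y ^ i * z)) : p ∣ N := by
  rcases (hp.out.dvd_mul).1 hd with hd | hd
  swap
  · exact dvd_num_of ham hN hi him hd
  by_cases hex : ∃ j < a, p ∣ gs y (j + 1)
  · obtain ⟨j, hj, hpj⟩ := hex
    have h1 := pow_eq_one_of_dvd_gs hpj
    obtain ⟨i', h2, h3, h4⟩ : ∃ i', m - a ≤ i' ∧ i' < m ∧ (y : ZMod p) ^ i' = (y : ZMod p) ^ c := by
      have hy0 : ((y : ZMod p)) ^ (j + 1) = 1 := h1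
      have key : ∀ k : ℕ, (y : ZMod p) ^ (k * (j + 1)) = 1 := fun k => by
        rw [mul_comm, pow_mul, hy0, one_pow]
      refine ⟨m - a + ((c + (m - a) * j) % (j + 1)), by omega, ?_, ?_⟩
      · have := Nat.mod_lt (c + (m - a) * j) (Nat.succ_pos j)
        rw [Nat.succ_eq_add_one] at this
        omega
      · have h5 := Nat.div_add_mod (c + (m - a) * j) (j + 1)
        have h6 : (y : ZMod p) ^ (m - a + ((c + (m - a) * j) % (j + 1))) *
            (y : ZMod p) ^ ((c + (m - a) * j) / (j + 1) * (j + 1)) = (y : ZMod p) ^ c * (y : ZMod p) ^ ((m - a) * (j + 1)) := by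
          rw [← pow_add, ← pow_add]
          congr 1
          have h7 : (j + 1) * ((c + (m - a) * j) / (j + 1)) = (c + (m - a) * j) / (j + 1) * (j + 1) := mul_comm _ _
          rw [h7] at h5
          have h8 : (m - a) * (j + 1) = (m - a) * j + (m - a) := by ring
          omega
        rw [key, key, mul_one, mul_one] at h6
        exact h6
    refine dvd_num_of ham hN h2 h3 ?_
    rw [← ZMod.natCast_eq_zero_iff] at hc ⊢
    push_cast at hc ⊢
    rw [h4]
    exact hc
  · push Not at hex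
    have h1 : p ∣ N * ∏ i ∈ Finset.range a, gs y (i + 1) := by
      rw [hN]
      have e : i = m - a + (i - (m - a)) := by omega
      refine dvd_trans ?_ (Finset.dvd_prod_of_mem (fun j => gs y (m - a + j + 1) * (1 + y ^ (m - a + j) * z))
        (Finset.mem_range.2 (show i - (m - a) < a by omega)))
      show p ∣ gs y (m - a + (i - (m - a)) + 1) * _
      rw [← e]
      exact Dvd.dvd.mul_right hd _
    rcases (hp.out.dvd_mul).1 h1 with h2 | h2
    · exact h2
    · exfalso
      obtain ⟨j, hj, hpj⟩ := (hp.out.prime.dvd_finsetProd_iff _).1 h2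
      exact hex j (Finset.mem_range.1 hj) hpj

/-- the spin parabolic subgroups -/
theorem dvd_spin {m v c y : ℕ} {p : ℕ} [hp : Fact p.Prime] (h2 : p ≠ 2) (hv : v < m) (hc : p ∣ 1 + y ^ c)
    (hd : p ∣ gs y (m - v) * (1 + y ^ (m - v - 1))) : p ∣ ∏ i ∈ Finset.range (m - 1), (1 + y ^ (i + 1)) := by
  have key : ∀ i, p ∣ 1 + y ^ i → i < m → p ∣ ∏ i ∈ Finset.range (m - 1), (1 + y ^ (i + 1)) := by
    intro i hi him
    have hi0 : i ≠ 0 := by
      rintro rfl
      rw [pow_zero] at hi
      exact h2 ((Nat.prime_dvd_prime_iff_eq hp.out Nat.prime_two).1 hi)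
    have e : i = (i - 1) + 1 := by omega
    rw [e] at hi
    exact hi.trans (Finset.dvd_prod_of_mem (fun i => 1 + y ^ (i + 1)) (Finset.mem_range.2 (by omega)))
  rcases (hp.out.dvd_mul).1 hd with hd | hd
  · have h1 := pow_eq_one_of_dvd_gs hd
    refine key (c % (m - v)) ?_ (lt_of_lt_of_le (Nat.mod_lt _ (by omega)) (by omega))
    rw [← ZMod.natCast_eq_zero_iff] at hc ⊢
    push_cast at hc ⊢
    have h3 : (y : ZMod p) ^ c = (y : ZMod p) ^ (c % (m - v)) := by
      conv_lhs => rw [← Nat.div_add_mod c (m - v), pow_add, pow_mul, h1, one_pow, one_mul]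
    rw [← h3]
    exact hc
  · exact key _ hd (by omega)

end Arith

section IndexDvd

variable {n : ℕ} {W Y : Type*} [Group W] [Group Y] {cs : CoxeterSystem (Cfsg.Agent.Nodes.TypeD.M n) W}
  {A : Fin (n + 2) → Fin (n + 2) → ℤ} {h : IsCartan (Cfsg.Agent.Nodes.TypeD.M n) A} {r : ℕ} {T : Subgroup Y}
  {n' : Fin (n + 2) → Y} {X : (Fin (n + 2) → ℤ) → Subgroup Y} (R : RGD cs h r T n' X)

include R

/-- a smaller parabolic subgroup -/
theorem dvd_index_monoD [Finite W] {J J' : Set (Fin (n + 2))} (hJ : J ⊆ J') {p : ℕ}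
    (hp : p ∣ (PJ cs h T X J').index) : p ∣ (PJ cs h T X J).index :=
  hp.trans (Subgroup.index_dvd_of_le (Cfsg.Agent.H554.RG.PJ_mono R hJ))

/-- **All parabolic subgroups `P_J` such that one of the nodes `j` with `v ≤ j` or `m - 2 ≤ j` is not in `J`**, `m = n + 2`,
`v < m`, `p` an odd prime, `p ∣ [m - v] (1 + y^(m-v-1))` and `p` divides some number `1 + y^c`. -/
theorem dvd_index_D_all [Finite W] [Finite Y] (hG : GG cs h T X = ⊤) {y : ℕ}
    (hy : ∀ i : Fin (n + 2), Nat.card (X (sr i)) = y) {p : ℕ} [hp : Fact p.Prime] (h2 : p ≠ 2) {c v : ℕ} (hv : v < n + 2)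
    (hc : p ∣ 1 + y ^ c) (hd : p ∣ gs y (n + 2 - v) * (1 + y ^ (n + 2 - v - 1))) {J : Set (Fin (n + 2))}
    {j : Fin (n + 2)} (hj : v ≤ (j : ℕ) ∨ n ≤ (j : ℕ)) (hjJ : j ∉ J) : p ∣ (PJ cs h T X J).index := by
  have h1 := j.2
  have hspin := dvd_spin h2 hv hc hd
  have e : n + 2 - 1 = n + 1 := by omega
  rw [e] at hspin
  rcases Nat.lt_or_ge (j : ℕ) n with h3 | h3
  · refine dvd_index_monoD R (J' := {i | (i : ℕ) + 1 ≠ (j : ℕ) + 1}) (fun i hi e => hjJ ?_) ?_
    · have e1 : i = j := Fin.ext (Nat.succ_injective e)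
      rwa [← e1]
    · have h4 := index_D R hG hy (a := (j : ℕ) + 1) (by omega) (by omega)
      refine dvd_num (m := n + 2) (a := (j : ℕ) + 1) (y := y) (z := 1) (by omega) ?_ (c := c)
        (by rwa [mul_one]) (i := n + 2 - v - 1) (by omega) (by omega) ?_
      · simp only [mul_one]
        exact h4
      · have e : n + 2 - v - 1 + 1 = n + 2 - v := by omega
        rw [mul_one, e]
        exact hd
  · rcases Nat.lt_or_ge (j : ℕ) (n + 1) with h4 | h4
    · refine dvd_index_monoD R (J' := {i | (i : ℕ) ≠ n}) (fun i hi e => hjJ ?_) ?_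
      · have e1 : i = j := Fin.ext (e.trans (by omega))
        rwa [← e1]
      · rw [index_spin' R hG hy]
        exact hspin
    · refine dvd_index_monoD R (J' := {i | (i : ℕ) + 1 ≠ n + 2}) (fun i hi e => hjJ ?_) ?_
      · have e0 : (i : ℕ) + 1 = n + 2 := e
        have e1 : i = j := Fin.ext (by omega)
        rwa [← e1]
      · rw [index_spin R hG hy]
        exact hspin

end IndexDvd

/-! ### The numbers -/

section Num

variable {p : ℕ} [hp : Fact p.Prime]

/-- the Witt index of the complement for `Ω⁺_{2m}(q)`, `ord_p(q) = 2 d` -/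
def wp (m d : ℕ) : ℕ := if m / d % 2 = 0 then m % d else if m % d = 0 then d else m % d - 1

omit hp in
theorem wp_lt {m d : ℕ} (hd : 0 < d) (hdm : d < m) : wp m d < m := by
  have h0 := Nat.mod_lt m hd
  unfold wp
  split_ifs <;> omega

/-- `z = 1` : `PΩ⁺_{2m}` -/
theorem num_zero {q j : ℕ} (h1 : (q : ZMod p) ≠ 1) (h : (q : ZMod p) ^ j = 1 ∨ (q : ZMod p) ^ (j - 1) = -1) :
    p ∣ gs q j * (1 + q ^ (j - 1)) := by
  rcases h with h | h
  · exact Dvd.dvd.mul_right (dvd_gs_of h1 h) _
  · exact Dvd.dvd.mul_left (dvd_of_neg_one h rfl) _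

/-- **`PΩ⁺_{2m}(q)`**, `ord_p(q) = 2 d`, `d < m` : the Witt index `wp m d` -/
theorem wit_plus {q d m : ℕ} (h : orderOf (q : ZMod p) = 2 * d) (hd : 0 < d) (hdm : d < m) :
    wp m d < m ∧ p ∣ 1 + q ^ d ∧ p ∣ gs q (m - wp m d) * (1 + q ^ (m - wp m d - 1)) := by
  have h0 := Nat.mod_lt m hd
  have h1 := Nat.div_add_mod m d
  have hm := wp_lt hd hdm
  refine ⟨hm, dvd_of_neg_one (pow_half h hd) rfl, ?_⟩
  refine num_zero (ne_one_of_order h) ?_
  unfold wp at hm ⊢
  split_ifs at hm ⊢ with h3 h4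
  · left
    have e : m - m % d = d * (m / d) := by omega
    rw [e, pow_half_mul h hd]
    exact Even.neg_one_pow (Nat.even_iff.2 h3)
  · left
    have h5 : 1 ≤ m / d := by
      rcases Nat.eq_zero_or_pos (m / d) with h6 | h6
      · rw [h6] at h3; omega
      · exact h6
    have e : m - d = d * (m / d - 1) := by
      rw [Nat.mul_sub, mul_one]
      omega
    rw [e, pow_half_mul h hd]
    exact Even.neg_one_pow (Nat.even_iff.2 (by omega))
  · right
    have e : m - (m % d - 1) - 1 = d * (m / d) := by omega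
    rw [e, pow_half_mul h hd]
    exact Odd.neg_one_pow (Nat.odd_iff.2 (by omega))

end Num

end Cfsg.Agent.H965.XZ
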