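import Cfsg.Agent.H353.PanC

/-!
# Root group data of `PΩ⁺_{2m}(F)` with the orders of the simple root groups (helper965, for S4791 / S4927)

* `card_XD` : `|X (α_i)| = |F|` for the root groups of type `D_{n+2}` of a frame of a good quadratic form;
* `pan_po_plus` : `PΩ⁺_{2(n+3)}(F)`, type `D_{n+3}`, all root groups of order `|F|`, commutative torus.
-/

set_option autoImplicit false
set_option linter.unusedSectionVars false

namespace Cfsg.Agent.H965.XZ

open Cfsg
open CoxeterSystem Cfsg.Agent.ChevalleyStructure.CoxeterGeom Cfsg.Agent.Tits.Roots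
  Cfsg.Agent.Nodes.Comb Cfsg.Agent.Nodes.Reps Cfsg.Agent.Nodes.BNOf
  Cfsg.Agent.Nodes.RGDLib Cfsg.Agent.Nodes.TypeD
open Cfsg.Agent.Nodes Cfsg.Agent.Nodes.WittInst
open Cfsg.Agent.TitsThree Cfsg.Agent.TitsThree.Siegel Cfsg.Agent.TitsThree.SiegelGen
  Cfsg.Agent.TitsThree.WittFrame Cfsg.Agent.TitsThree.WBridge Cfsg.Agent.TitsThree.WittWeyl
  Cfsg.Agent.TitsThree.FrameCN
open QuadraticMap
open Cfsg.Agent.LieClassical Cfsg.Agent.LieClassical.OrthCore Cfsg.Agent.LieClassical.OrthTrans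
open Cfsg.Agent.LieClassical.OrthSimple Cfsg.Agent.LieClassical.OrthFinite
open Cfsg.Agent.LieClassical.OrthForms
open Cfsg.Agent.TitsThree.KSideO Cfsg.Agent.TitsThree.StdData

section

variable {ι : Type} [Fintype ι] [DecidableEq ι] {F : Type*} [Field F] {Q : QuadraticForm F (ι → F)} {n : ℕ}
  (W : WFrame (PO Q) (n + 2)) (hG : Good Q)

theorem eq_zero_of_X_center {m : ℕ} (W : WFrame (PO Q) m) {x y : Fin m × Bool} (h : x.1 ≠ y.1) {t : F}
    (ht : toPOmega hG ⟨(toFrame W).X x y t, X_mem W x y t⟩ = 1) : t = 0 := by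
  obtain ⟨a, ha⟩ := scalar_of_center hG (center_of_toPOmega hG ht)
  have h1 : (toFrame W).b (neg y) + t • (toFrame W).b x = a • (toFrame W).b (neg y) := by
    rw [← LineBorel.X_apply_neg (toFrame W) h]
    exact ha _
  have h3 := congrArg (fun v => (HO Q).h v ((toFrame W).b (neg x))) h1
  have h4 : (HO Q).h ((toFrame W).b (neg y)) ((toFrame W).b (neg x)) = 0 := (toFrame W).hb_of_ne (Ne.symm h)
  simp only [(HO Q).add_left, (HO Q).smul_left, h4, mul_zero, zero_add] at h3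
  rcases mul_eq_zero.1 h3 with h5 | h5
  · exact h5
  · exact absurd h5 (by
      rw [(toFrame W).hb_self_neg]
      exact (toFrame W).η_ne _)

theorem inj_X_center {m : ℕ} (W : WFrame (PO Q) m) {x y : Fin m × Bool} (h : x.1 ≠ y.1) :
    Function.Injective fun t : F => toPOmega hG ⟨(toFrame W).X x y t, X_mem W x y t⟩ := by
  intro s t hst
  have h1 : toPOmega hG ⟨(toFrame W).X x y (s - t), X_mem W x y (s - t)⟩ = 1 := by
    have h2 : (⟨(toFrame W).X x y (s - t), X_mem W x y (s - t)⟩ : E Q) =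
        ⟨(toFrame W).X x y s, X_mem W x y s⟩ * (⟨(toFrame W).X x y t, X_mem W x y t⟩)⁻¹ := by
      apply Subtype.ext
      show (toFrame W).X x y (s - t) = (toFrame W).X x y s * ((toFrame W).X x y t)⁻¹
      rw [sub_eq_add_neg, (toFrame W).X_add, (toFrame W).X_neg]
    rw [h2, map_mul, map_inv]
    have h3 : toPOmega hG ⟨(toFrame W).X x y s, X_mem W x y s⟩ = toPOmega hG ⟨(toFrame W).X x y t, X_mem W x y t⟩ := hst
    rw [h3, mul_inv_cancel]
  exact sub_eq_zero.1 (eq_zero_of_X_center hG W h h1)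

/-- the orders of the simple root groups of type `D` -/
theorem card_XD (i : Fin (n + 2)) : Nat.card (XD W (toPOmega hG) (sr i)) = Nat.card F := by
  have hne : ((i, true) : Fin (n + 2) × Bool).1 ≠ (nx i).1 := ok_nx i
  have hrg : WittRGDD.rg (toFrame W) (sr i) = WittRoot.XG (toFrame W) (i, true) (nx i) := WittRGDD.rg_sr i
  symm
  refine Nat.card_congr (Equiv.ofBijective (fun t : F =>
    (⟨toPOmega hG ⟨(toFrame W).X (i, true) (nx i) t, X_mem W _ _ t⟩,
      Subgroup.mem_map_of_mem _ (Subgroup.mem_subgroupOf.2 (by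
        show (toFrame W).X (i, true) (nx i) t ∈ WittRGDD.rg (toFrame W) (sr i)
        rw [hrg]; exact ⟨t, rfl⟩))⟩ : XD W (toPOmega hG) (sr i))) ⟨?_, ?_⟩)
  · intro s t hst
    exact inj_X_center hG W hne (congrArg Subtype.val hst)
  · rintro ⟨k, hk⟩
    obtain ⟨g, hg, rfl⟩ := hk
    have hgr : g.1 ∈ WittRGDD.rg (toFrame W) (sr i) := Subgroup.mem_subgroupOf.1 hg
    rw [hrg] at hgr
    obtain ⟨t, ht⟩ := hgr
    refine ⟨t, Subtype.ext (congrArg (toPOmega hG) (Subtype.ext ht.symm))⟩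

end

/-- **`PΩ⁺_{2(n+3)}(F)`** -/
theorem pan_po_plus {F : Type*} [Field F] [Finite F] (n : ℕ) {p : ℕ} [Fact p.Prime] [CharP F p] :
    Cfsg.Agent.H50.Her.HasPan p (TypeD.M (n + 1)) (fun _ => Nat.card F) (Cfsg.POmega F (Cfsg.quadFormPlus (n + 3) F)) := by
  rw [← coe_plusForm]
  have hG : Good (plusForm (n + 3) F) := by
    apply good_of_finite (nondeg_plusForm (n + 3) F)
    rw [Module.finrank_fintype_fun_eq_card, Fintype.card_sum, Fintype.card_fin]
    omega
  have hA := amb_plus (F := F) (n + 3)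
  refine ⟨TypeD.A (n + 1), TypeD.isCartan (n + 1), _, _, _,
    TypeD.finite_W (TypeD.M (n + 1)).toCoxeterSystem,
    rgdD_model (wplus (n + 3) F) hG (amb_plus _) (adm_plus _) _,
    G1D_eq_top (wplus (n + 3) F) (toPOmega hG) (toPOmega_surjective hG) (adm_plus _) _, ?_, ?_, ?_⟩
  · rintro _ ⟨s, hs, rfl⟩ _ ⟨t, ht, rfl⟩
    rw [← map_mul, ← map_mul]
    congr 1
    refine Subtype.ext (Cfsg.Agent.H716.RGDAb.tor_comm_of (amb_plus (F := F) (n + 3)).V0 (Subgroup.mem_subgroupOf.1 hs)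
      (Subgroup.mem_subgroupOf.1 ht) fun w hw => ?_)
    have hw0 : w = 0 := (Submodule.mem_bot F).1 hw
    rw [hw0, map_zero, map_zero, map_zero]
  · intro i
    unfold XD
    rw [← Subgroup.map_sup, ← Subgroup.subgroupOf_sup (rgD_le _ hA _) (rgD_le _ hA _)]
    exact Subgroup.mem_map_of_mem _ (Subgroup.mem_subgroupOf.2 (WittRGDD.nn_mem_sup i))
  · intro i
    exact card_XD (wplus (n + 3) F) hG i

end Cfsg.Agent.H965.XZ
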