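import Cfsg.Agent.H965.XZ.IdxB

/-!
# The orders of the parabolic subgroups of blocks of size `e` in type `B_m` (helper965, for S4791 / S4927)

`y` of order `e > 1` modulo `p`.
* `exists_fac` : `[1][2]…[k] = [e]^(k/e) u`, `p ∤ u`, if `k < e p`;
* `card_seg` : a component of type `A` of a parabolic subgroup of type `B_m`;
* `card_JA` : `|P_J| = ([1]…[e])^w |B|` for `w` blocks;
* `card_JA_sub` : `|P_J| [1]…[b] [1]…[e-b] = |P_{J - j}| [1]…[e]`.
-/

set_option autoImplicit false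
set_option linter.unusedSectionVars false

namespace Cfsg.Agent.H965.XZ

open CoxeterSystem Cfsg.Agent.ChevalleyStructure.CoxeterGeom Cfsg.Agent.Tits.Roots Cfsg.Agent.Tits.Core
  Cfsg.Agent.Tits.RootComb Cfsg.Agent.Tits.Exchange Cfsg.Agent.Nodes.Comb Cfsg.Agent.Nodes.Reps
  Cfsg.Agent.Nodes.BNOf Cfsg.Agent.Nodes.StabComb Cfsg.Agent.Nodes.Bruhat Cfsg.Agent.Nodes.OppDec
  Cfsg.Agent.Nodes.LeviDec Cfsg.Agent.Nodes.NormalForm Cfsg.Agent.ChevalleyStructure.WeylAbstract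
  Cfsg.Agent.H35.Poin

/-- `[1][2]…[k]` -/
def fac (y k : ℕ) : ℕ := ∏ i ∈ Finset.range k, gs y (i + 1)

theorem fac_succ (y k : ℕ) : fac y (k + 1) = fac y k * gs y (k + 1) := Finset.prod_range_succ _ _

theorem fac_zero (y : ℕ) : fac y 0 = 1 := rfl

theorem fac_eq (y k : ℕ) : fac y (k + 1) = ∏ i ∈ Finset.range k, ∑ t ∈ Finset.range (i + 2), y ^ t := by
  unfold fac
  rw [Finset.prod_range_succ']
  have h2 : gs y (0 + 1) = 1 := by simp [gs]
  rw [h2, mul_one]
  rfl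

theorem gs_mul (y e : ℕ) : ∀ j : ℕ, gs y (e * j) = gs y e * gs (y ^ e) j := by
  intro j
  induction j with
  | zero => simp [gs]
  | succ j ih =>
    rw [Nat.mul_succ, gs_add, ih, show gs (y ^ e) (j + 1) = gs (y ^ e) j + (y ^ e) ^ j from Finset.sum_range_succ _ _,
      mul_add, ← pow_mul]
    ring

section arith

variable {p : ℕ} [hp : Fact p.Prime] {y e : ℕ}

theorem not_dvd_gs (ho : orderOf (y : ZMod p) = e) {j : ℕ} (hj : ¬ e ∣ j) : ¬ p ∣ gs y j := by
  intro h1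
  refine hj ?_
  rw [← ho]
  exact orderOf_dvd_of_pow_eq_one (pow_eq_one_of_dvd_gs h1)

theorem dvd_gs_e (ho : orderOf (y : ZMod p) = e) (he : 1 < e) : p ∣ gs y e := by
  refine dvd_gs_of ?_ ?_
  · intro h1
    rw [h1, orderOf_one] at ho
    omega
  · rw [← ho]
    exact pow_orderOf_eq_one _

theorem not_dvd_gs_pow (ho : orderOf (y : ZMod p) = e) {j : ℕ} (h0 : 0 < j) (hj : j < p) : ¬ p ∣ gs (y ^ e) j := by
  intro h1
  rw [← ZMod.natCast_eq_zero_iff] at h1
  unfold gs at h1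
  push_cast at h1
  rw [← ho, pow_orderOf_eq_one] at h1
  simp only [one_pow, Finset.sum_const, Finset.card_range, nsmul_eq_mul, mul_one] at h1
  rw [ZMod.natCast_eq_zero_iff] at h1
  exact absurd (Nat.le_of_dvd h0 h1) (by omega)

theorem exists_fac (ho : orderOf (y : ZMod p) = e) : ∀ k : ℕ, k < e * p →
    ∃ u, ¬ p ∣ u ∧ fac y k = gs y e ^ (k / e) * u := by
  intro k
  induction k with
  | zero =>
    intro _
    refine ⟨1, fun h => ?_, by rw [fac_zero, Nat.zero_div, pow_zero, one_mul]⟩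
    exact hp.out.one_lt.ne' (Nat.dvd_one.1 h)
  | succ k ih =>
    intro hk
    obtain ⟨u, hu, h1⟩ := ih (by omega)
    rw [fac_succ, h1, Nat.succ_div]
    by_cases hd : e ∣ k + 1
    · obtain ⟨j, hj⟩ := hd
      have hj0 : 0 < j := by
        rcases Nat.eq_zero_or_pos j with rfl | h2
        · omega
        · exact h2
      have hjp : j < p := by
        by_contra hcon
        have := Nat.mul_le_mul_left e (not_lt.1 hcon)
        omega
      refine ⟨u * gs (y ^ e) j, fun h2 => ?_, ?_⟩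
      · rcases (hp.out.dvd_mul).1 h2 with h3 | h3
        · exact hu h3
        · exact not_dvd_gs_pow ho hj0 hjp h3
      · rw [if_pos ⟨j, hj⟩, hj, gs_mul, pow_add, pow_one]
        ring
    · refine ⟨u * gs y (k + 1), fun h2 => ?_, ?_⟩
      · rcases (hp.out.dvd_mul).1 h2 with h3 | h3
        · exact hu h3
        · exact not_dvd_gs ho hd h3
      · rw [if_neg hd, add_zero]
        ring

theorem not_dvd_fac (ho : orderOf (y : ZMod p) = e) {k : ℕ} (hk : k < e) : ¬ p ∣ fac y k := by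
  obtain ⟨u, hu, h1⟩ := exists_fac (p := p) ho k (lt_of_lt_of_le hk (Nat.le_mul_of_pos_right _ hp.out.pos))
  rw [h1, Nat.div_eq_of_lt hk, pow_zero, one_mul]
  exact hu

end arith

section seg

variable {m : ℕ} {A : Fin m → Fin m → ℤ} (h : IsCartan (CoxeterMatrix.B m) A)

include h

/-- a segment of the diagram, `a, a+1, …, a+k-1`, `a + k < m` -/
theorem apath_seg (hm : 0 < m) {J : Set (Fin m)} {a k : ℕ} (hak : a + k < m)
    (hJ : ∀ j : Fin m, a ≤ (j : ℕ) → (j : ℕ) < a + k → j ∈ J) (hl : ∀ j ∈ J, (j : ℕ) + 1 ≠ a)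
    (hr : ∀ j ∈ J, (j : ℕ) ≠ a + k) : APath A J (fun t => nd hm (a + t)) k where
  mem t ht := hJ _ (by rw [nd_val hm (by omega)]; omega) (by rw [nd_val hm (by omega)]; omega)
  adj t ht := cart_adj h (by rw [nd_val hm (by omega), nd_val hm (by omega)]; omega)
    (by rw [nd_val hm (by omega)]; omega)
  far s t hs ht := cart_far h (by rw [nd_val hm (by omega), nd_val hm (by omega)]; omega)
  out j hj hc t ht := by
    have h1 : (j : ℕ) < a ∨ a + k ≤ (j : ℕ) := by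
      by_contra hcon
      push Not at hcon
      refine hc ((j : ℕ) - a) (by omega) (Fin.ext ?_)
      rw [nd_val hm (by omega)]
      omega
    have h2 := hl j hj
    have h3 := hr j hj
    rcases h1 with h1 | h1
    · exact (cart_far h (i := j) (j := nd hm (a + t)) (by rw [nd_val hm (by omega)]; omega)).2
    · exact (cart_far h (i := nd hm (a + t)) (j := j) (by rw [nd_val hm (by omega)]; omega)).1
  inj s hs t ht e := by
    have h1 := congrArg Fin.val e
    rw [nd_val hm (by omega), nd_val hm (by omega)] at h1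
    omega

end seg

section card

variable {m : ℕ} {W Y : Type*} [Group W] [Finite W] [Group Y] [Finite Y]
  {cs : CoxeterSystem (CoxeterMatrix.B m) W} {A : Fin m → Fin m → ℤ} {h : IsCartan (CoxeterMatrix.B m) A} {r : ℕ}
  {T : Subgroup Y} {n : Fin m → Y} {X : (Fin m → ℤ) → Subgroup Y} (R : RGD cs h r T n X)

include R

/-- **A component of type `A_k`.** -/
theorem card_seg {y : ℕ} (hy : ∀ i : Fin m, (i : ℕ) + 1 < m → Nat.card (X (sr i)) = y) {J : Set (Fin m)} {a k : ℕ}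
    (hak : a + k < m) (hJ : ∀ j : Fin m, a ≤ (j : ℕ) → (j : ℕ) < a + k → j ∈ J) (hl : ∀ j ∈ J, (j : ℕ) + 1 ≠ a)
    (hr : ∀ j ∈ J, (j : ℕ) ≠ a + k) :
    Nat.card ↥(PJ cs h T X J) = fac y (k + 1) *
      Nat.card ↥(PJ cs h T X (J \ {j | a ≤ (j : ℕ) ∧ (j : ℕ) < a + k})) := by
  have hm : 0 < m := by omega
  rw [card_PJ_path R (apath_seg h hm hak hJ hl hr) (y := y) (fun t ht => hy _ (by rw [nd_val hm (by omega)]; omega)),
    fac_eq]
  have h1 : {j : Fin m | ∃ t < k, nd hm (a + t) = j} = {j : Fin m | a ≤ (j : ℕ) ∧ (j : ℕ) < a + k} := by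
    ext j
    constructor
    · rintro ⟨t, ht, rfl⟩
      show a ≤ (nd hm (a + t) : ℕ) ∧ (nd hm (a + t) : ℕ) < a + k
      rw [nd_val hm (by omega)]
      omega
    · rintro ⟨h1, h2⟩
      exact ⟨(j : ℕ) - a, by omega, Fin.ext (by rw [nd_val hm (by omega)]; omega)⟩
  rw [h1]

theorem not_dvd_of_block {e t j : ℕ} (h1 : e * t ≤ j) (h2 : j + 1 < e * t + e) : ¬ e ∣ j + 1 := by
  rintro ⟨k, hk⟩
  have h3 : e * t < e * k := by omega
  have h4 : e * k < e * (t + 1) := by rw [Nat.mul_succ]; omega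
  have h5 := Nat.lt_of_mul_lt_mul_left h3
  have h6 := Nat.lt_of_mul_lt_mul_left h4
  omega

/-- **`w` blocks of size `e`** -/
theorem card_JA {y : ℕ} (hy : ∀ i : Fin m, (i : ℕ) + 1 < m → Nat.card (X (sr i)) = y) {e : ℕ} (he : 0 < e) :
    ∀ w : ℕ, e * w ≤ m → Nat.card ↥(PJ cs h T X {k : Fin m | (k : ℕ) + 1 < e * w ∧ ¬ e ∣ (k : ℕ) + 1}) =
      fac y e ^ w * Nat.card ↥(RGD.B cs h T X) := by
  intro w
  induction w with
  | zero =>
    intro _
    have h1 : {k : Fin m | (k : ℕ) + 1 < e * 0 ∧ ¬ e ∣ (k : ℕ) + 1} = ∅ := by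
      rw [Set.eq_empty_iff_forall_notMem]
      rintro k ⟨h2, -⟩
      rw [mul_zero] at h2
      omega
    rw [h1, PJ_empty, pow_zero, one_mul]
  | succ w ih =>
    intro hw
    rw [Nat.mul_succ] at hw
    have hee : e = (e - 1) + 1 := by omega
    rw [card_seg R hy (a := e * w) (k := e - 1) (by omega) ?_ ?_ ?_]
    · have h1 : ({k : Fin m | (k : ℕ) + 1 < e * (w + 1) ∧ ¬ e ∣ (k : ℕ) + 1} \
          {j | e * w ≤ (j : ℕ) ∧ (j : ℕ) < e * w + (e - 1)}) = {k : Fin m | (k : ℕ) + 1 < e * w ∧ ¬ e ∣ (k : ℕ) + 1} := by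
        ext k
        simp only [Set.mem_sdiff, Set.mem_ofPred_eq, Nat.mul_succ]
        constructor
        · rintro ⟨⟨h2, h3⟩, h4⟩
          refine ⟨?_, h3⟩
          by_contra h5
          have h6 : (k : ℕ) + 1 ≠ e * w := fun h7 => h3 ⟨w, h7⟩
          exact h4 ⟨by omega, by omega⟩
        · rintro ⟨h2, h3⟩
          exact ⟨⟨by omega, h3⟩, fun h4 => by omega⟩
      rw [h1, ih (by omega), pow_succ, ← hee]
      ring
    · intro j h1 h2
      refine ⟨by rw [Nat.mul_succ]; omega, not_dvd_of_block R (t := w) h1 (by omega)⟩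
    · rintro j ⟨-, h2⟩ h3
      exact h2 ⟨w, h3⟩
    · rintro j ⟨h1, h2⟩ h3
      refine h2 ⟨w + 1, ?_⟩
      rw [Nat.mul_succ]
      omega

/-- **one node less** -/
theorem card_JA_sub {y : ℕ} (hy : ∀ i : Fin m, (i : ℕ) + 1 < m → Nat.card (X (sr i)) = y) {e w : ℕ} (he : 0 < e)
    (hw : e * w ≤ m) {j : Fin m} (hj1 : (j : ℕ) + 1 < e * w) (hj2 : ¬ e ∣ (j : ℕ) + 1) :
    ∃ b c, 0 < b ∧ b < e ∧ 0 < c ∧ c < e ∧ b + c = e ∧
      Nat.card ↥(PJ cs h T X {k : Fin m | (k : ℕ) + 1 < e * w ∧ ¬ e ∣ (k : ℕ) + 1}) * (fac y b * fac y c) =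
        fac y e * Nat.card ↥(PJ cs h T X ({k : Fin m | (k : ℕ) + 1 < e * w ∧ ¬ e ∣ (k : ℕ) + 1} \ {j})) := by
  -- `j = e t + s`
  set t := (j : ℕ) / e with ht
  set s := (j : ℕ) % e with hs
  have hjts : e * t + s = j := Nat.div_add_mod _ _
  have hse : s < e := Nat.mod_lt _ he
  have hs1 : s + 1 < e := by
    rcases Nat.lt_or_ge (s + 1) e with h1 | h1
    · exact h1
    · exfalso
      refine hj2 ⟨t + 1, ?_⟩
      rw [Nat.mul_succ]
      omega
  have htw : t < w := by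
    by_contra hcon
    have := Nat.mul_le_mul_left e (not_lt.1 hcon)
    omega
  have htw' : e * t + e ≤ e * w := by
    have := Nat.mul_le_mul_left e (Nat.succ_le_of_lt htw)
    rwa [Nat.mul_succ] at this
  set J : Set (Fin m) := {k : Fin m | (k : ℕ) + 1 < e * w ∧ ¬ e ∣ (k : ℕ) + 1} with hJ
  have hmem : ∀ k : Fin m, e * t ≤ (k : ℕ) → (k : ℕ) + 1 < e * t + e → k ∈ J := fun k h1 h2 =>
    ⟨by omega, not_dvd_of_block R h1 h2⟩
  have hout1 : ∀ k ∈ J, (k : ℕ) + 1 ≠ e * t := fun k hk h1 => hk.2 ⟨t, h1⟩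
  have hout2 : ∀ k ∈ J, (k : ℕ) + 1 ≠ e * t + e := fun k hk h1 => hk.2 ⟨t + 1, by rw [Nat.mul_succ]; exact h1⟩
  refine ⟨s + 1, e - 1 - s, by omega, by omega, by omega, by omega, by omega, ?_⟩
  have h1 := card_seg R hy (J := J) (a := e * t) (k := e - 1) (by omega) (fun k hk1 hk2 => hmem k hk1 (by omega)) hout1
    (fun k hk h2 => hout2 k hk (by omega))
  have h2 := card_seg R hy (J := J \ {j}) (a := e * t) (k := s) (by omega)
    (fun k hk1 hk2 => ⟨hmem k hk1 (by omega), fun h3 => by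
      have h4 := congrArg Fin.val (Set.mem_singleton_iff.1 h3)
      omega⟩) (fun k hk => hout1 k hk.1) (fun k hk h3 => hk.2 (Fin.ext (by omega)))
  have h3 := card_seg R hy (J := (J \ {j}) \ {k | e * t ≤ (k : ℕ) ∧ (k : ℕ) < e * t + s}) (a := e * t + s + 1)
    (k := e - 2 - s) (by omega)
    (fun k hk1 hk2 => ⟨⟨hmem k (by omega) (by omega), fun h3 => by
      have h4 := congrArg Fin.val (Set.mem_singleton_iff.1 h3)
      omega⟩, fun h3 => by
        have := h3.2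
        omega⟩)
    (fun k hk h3 => hk.1.2 (Fin.ext (by omega))) (fun k hk h3 => hout2 k hk.1.1 (by omega))
  have h4 : ((J \ {j}) \ {k | e * t ≤ (k : ℕ) ∧ (k : ℕ) < e * t + s}) \
      {k | e * t + s + 1 ≤ (k : ℕ) ∧ (k : ℕ) < e * t + s + 1 + (e - 2 - s)} =
      J \ {k | e * t ≤ (k : ℕ) ∧ (k : ℕ) < e * t + (e - 1)} := by
    ext k
    simp only [Set.mem_sdiff, Set.mem_ofPred_eq, Set.mem_singleton_iff]
    constructor
    · rintro ⟨⟨⟨h5, h6⟩, h7⟩, h8⟩
      refine ⟨h5, fun h9 => ?_⟩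
      have h10 : (k : ℕ) ≠ j := fun h11 => h6 (Fin.ext h11)
      rcases Nat.lt_or_ge (k : ℕ) (e * t + s) with h11 | h11
      · exact h7 ⟨h9.1, h11⟩
      · exact h8 ⟨by omega, by omega⟩
    · rintro ⟨h5, h6⟩
      refine ⟨⟨⟨h5, ?_⟩, ?_⟩, ?_⟩
      · rintro rfl
        exact h6 ⟨by omega, by omega⟩
      · intro h7
        exact h6 ⟨by omega, by omega⟩
      · intro h7
        exact h6 ⟨by omega, by omega⟩
  rw [h4] at h3
  rw [h3] at h2
  rw [h1, h2]
  have e1 : e - 2 - s + 1 = e - 1 - s := by omega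
  have e2 : e - 1 + 1 = e := by omega
  rw [e1, e2]
  ring

end card

end Cfsg.Agent.H965.XZ
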