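import Cfsg.Agent.Nodes.WittAll

/-!
# The torus of a Witt model is a `p'`-group (helper965, for S4791 / S4927)

`F` a finite field, `e > 1` the order of `|F|` modulo `p`.
* `fix_of_lt` : an element of order `p` is trivial on a stable subspace of dimension `< e`;
* `not_dvd_Tor`, `not_dvd_T` : `p` does not divide the order of the torus if `dim V₀ < e`;
* `not_dvd_one_add`, `not_dvd_one_add_su`, `order_su` : the numbers of the linear primes.
-/

set_option autoImplicit false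
set_option linter.unusedSectionVars false

namespace Cfsg.Agent.H965.XZ

open Module Submodule

section lin

variable {F : Type*} {V : Type*} [Field F] [AddCommGroup V] [Module F V] [Finite F] [Finite V] {p : ℕ} [hp : Fact p.Prime]

/-- an element of order `p` without fixed vectors -/
theorem dvd_finrank_of {a : V ≃ₗ[F] V} (hap : a ^ p = 1) {W : Submodule F V} (hW : ∀ w ∈ W, a w ∈ W)
    (hfix : ∀ w ∈ W, a w = w → w = 0) : orderOf (Nat.card F : ZMod p) ∣ finrank F W := by
  have hfinE : Finite (V ≃ₗ[F] V) := Finite.of_injective (fun g : V ≃ₗ[F] V => (g : V → V)) DFunLike.coe_injective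
  have hWz : ∀ g ∈ Subgroup.zpowers a, ∀ w ∈ W, g w ∈ W := by
    intro g hg w hw
    obtain ⟨k, rfl⟩ := (mem_powers_iff_mem_zpowers (x := a)).2 hg
    have h1 : ∀ k : ℕ, (a ^ k) w ∈ W := by
      intro k
      induction k with
      | zero => exact hw
      | succ k ih =>
        rw [pow_succ']
        exact hW _ ih
    exact h1 k
  have hP : IsPGroup p (Subgroup.zpowers a) := by
    intro g
    obtain ⟨g, hg⟩ := g
    obtain ⟨k, rfl⟩ := Subgroup.mem_zpowers_iff.1 hg
    refine ⟨1, Subtype.ext ?_⟩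
    show (a ^ k) ^ (p ^ 1) = 1
    rw [pow_one, ← zpow_natCast, ← zpow_mul, mul_comm, zpow_mul, zpow_natCast, hap, one_zpow]
  let act : MulAction (Subgroup.zpowers a) W :=
    { smul := fun g w => ⟨(g : V ≃ₗ[F] V) w.1, hWz _ g.2 _ w.2⟩
      one_smul := fun w => rfl
      mul_smul := fun g h w => rfl }
  have h1 : Nat.card (MulAction.fixedPoints (Subgroup.zpowers a) W) = 1 := by
    rw [Nat.card_eq_one_iff_unique]
    have key : ∀ w : W, w ∈ MulAction.fixedPoints (Subgroup.zpowers a) W → w = 0 := by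
      intro w hw
      refine Subtype.ext (hfix w.1 w.2 ?_)
      exact congrArg Subtype.val (hw ⟨a, Subgroup.mem_zpowers a⟩)
    refine ⟨⟨fun u v => Subtype.ext ((key _ u.2).trans (key _ v.2).symm)⟩, ⟨0, fun g => Subtype.ext ?_⟩⟩
    show (g : V ≃ₗ[F] V) 0 = 0
    exact map_zero _
  have h2 := hP.card_modEq_card_fixedPoints W
  rw [h1, ← ZMod.natCast_eq_natCast_iff, Module.natCard_eq_pow_finrank (K := F) (V := W)] at h2
  push_cast at h2
  exact orderOf_dvd_of_pow_eq_one h2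

/-- **small subspaces are fixed** -/
theorem fix_of_lt (hpF : (p : F) ≠ 0) {g : V ≃ₗ[F] V} (hgp : g ^ p = 1) {W : Submodule F V} (hW : ∀ w ∈ W, g w ∈ W)
    (hlt : finrank F W < orderOf (Nat.card F : ZMod p)) : ∀ w ∈ W, g w = w := by
  have hfd : FiniteDimensional F V := inferInstance
  set N : V →ₗ[F] V := (g : V →ₗ[F] V) - LinearMap.id with hN
  have hNa : ∀ v, N v = g v - v := fun v => rfl
  set D : Submodule F V := W.map N with hD
  have hDW : D ≤ W := by
    rintro _ ⟨w, hw, rfl⟩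
    rw [hNa]
    exact W.sub_mem (hW w hw) hw
  have hgD : ∀ u ∈ D, g u ∈ D := by
    rintro _ ⟨w, hw, rfl⟩
    refine ⟨g w, hW w hw, ?_⟩
    rw [hNa, hNa, map_sub]
  have hfix : ∀ u ∈ D, g u = u → u = 0 := by
    rintro _ ⟨w, hw, rfl⟩ h1
    have h2 : g w = w + N w := by rw [hNa]; abel
    have h3 : ∀ k : ℕ, (g ^ k) w = w + (k : F) • N w := by
      intro k
      induction k with
      | zero =>
        rw [pow_zero, Nat.cast_zero, zero_smul, add_zero]
        rfl
      | succ k ih =>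
        have h4 : (g ^ (k + 1)) w = g ((g ^ k) w) := by
          rw [pow_succ']
          rfl
        rw [h4, ih, map_add, map_smul, h1, h2, Nat.cast_succ, add_smul, one_smul]
        abel
    have h4 := h3 p
    rw [hgp] at h4
    have h5 : (p : F) • N w = 0 := by
      have h6 : w = w + (p : F) • N w := h4
      exact (left_eq_add.1 h6)
    exact (smul_eq_zero.1 h5).resolve_left hpF
  have h1 := dvd_finrank_of hgp hgD hfix
  have h2 : finrank F D = 0 := by
    by_contra hne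
    have h3 := Nat.le_of_dvd (Nat.pos_of_ne_zero hne) h1
    have h4 := Submodule.finrank_mono hDW
    omega
  have h3 : D = ⊥ := Submodule.finrank_eq_zero.1 h2
  intro w hw
  have h4 : N w ∈ D := ⟨w, hw, rfl⟩
  rw [h3, Submodule.mem_bot, hNa] at h4
  exact sub_eq_zero.1 h4

end lin

section tor

open Cfsg.Agent.Nodes Cfsg.Agent.Nodes.WittAll Cfsg.Agent.Nodes.WittRGD Cfsg.Agent.Nodes.WittRoot
open Cfsg.Agent.TitsThree Cfsg.Agent.TitsThree.Siegel Cfsg.Agent.TitsThree.WittFrame Cfsg.Agent.TitsThree.WittWeyl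
  Cfsg.Agent.TitsThree.FrameCN

variable {F : Type*} [Field F] [Finite F] {V : Type*} [AddCommGroup V] [Module F V] [Finite V] {H : HForm F V} {n : ℕ}
  {Fr : Frame H (Fin n)} {G0 : Subgroup (V ≃ₗ[F] V)} {p : ℕ} [hp : Fact p.Prime] {r : ℕ}

theorem eq_one_of_fixT (hA : AmbT Fr r G0) {g : V ≃ₗ[F] V} (hb : ∀ x, g (Fr.b x) = Fr.b x)
    (h0 : ∀ w ∈ Fr.V0, g w = w) : g = 1 := by
  ext v
  set u : V := ∑ x, (H.h v (Fr.b (neg x)) * (Fr.η (neg x))⁻¹) • Fr.b x with hu
  have h1 : v - u ∈ Fr.V0 := by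
    apply hA.V0
    intro y
    rw [H.sub_left, sub_eq_zero]
    have h2 : H.h u (Fr.b y) = ∑ x, (H.h v (Fr.b (neg x)) * (Fr.η (neg x))⁻¹) * H.h (Fr.b x) (Fr.b y) := by
      rw [hu]
      have : ∀ (s : Finset (Fin n × Bool)) (f : Fin n × Bool → F), H.h (∑ x ∈ s, f x • Fr.b x) (Fr.b y) =
          ∑ x ∈ s, f x * H.h (Fr.b x) (Fr.b y) := by
        intro s f
        induction s using Finset.induction_on with
        | empty => simp [H.zero_left]
        | insert a s ha ih => rw [Finset.sum_insert ha, Finset.sum_insert ha, H.add_left, H.smul_left, ih]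
      exact this _ _
    rw [h2, Finset.sum_eq_single (neg y)]
    · rw [WittFrame.neg_neg, Fr.hb_neg_self]
      have := Fr.η_ne y
      field_simp
    · intro x _ hx
      rw [Fr.hb_ne, mul_zero]
      rintro rfl
      exact hx (WittFrame.neg_neg x).symm
    · intro h; exact absurd (Finset.mem_univ _) h
  have h2 : g u = u := by
    rw [hu, map_sum]
    exact Finset.sum_congr rfl fun x _ => by rw [map_smul, hb]
  have h3 : v = (v - u) + u := by abel
  show g v = v
  rw [h3, map_add, h0 _ h1, h2]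

/-- **`p` does not divide the order of the torus**, `dim V₀ < e`, `1 < e` -/
theorem not_dvd_Tor (hA : AmbT Fr r G0) (hpF : (p : F) ≠ 0) (he : 1 < orderOf (Nat.card F : ZMod p))
    (hlt : finrank F Fr.V0 < orderOf (Nat.card F : ZMod p)) : ¬ p ∣ Nat.card (Tor Fr G0) := by
  have : Finite (V ≃ₗ[F] V) := Finite.of_injective (fun g : V ≃ₗ[F] V => (g : V → V)) DFunLike.coe_injective
  intro hdvd
  obtain ⟨⟨g, hgT⟩, hg⟩ := exists_prime_orderOf_dvd_card' p hdvd
  have hgp : g ^ p = 1 := by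
    have := pow_orderOf_eq_one (⟨g, hgT⟩ : Tor Fr G0)
    rw [hg] at this
    exact congrArg Subtype.val this
  have hb : ∀ x, g (Fr.b x) = Fr.b x := by
    intro x
    refine fix_of_lt hpF hgp (W := Submodule.span F {Fr.b x}) ?_ ?_ _ (Submodule.mem_span_singleton_self _)
    · intro w hw
      obtain ⟨c, rfl⟩ := Submodule.mem_span_singleton.1 hw
      obtain ⟨l, -, e⟩ := hgT.2 x
      rw [map_smul, e]
      exact Submodule.smul_mem _ _ (Submodule.smul_mem _ _ (Submodule.mem_span_singleton_self _))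
    · rw [finrank_span_singleton (b_ne_zero x)]
      exact he
  have hV0 : ∀ w ∈ Fr.V0, g w ∈ Fr.V0 := fun w hw => hA.map_V0 hgT.1 hgT.2 (ρ := id) (fun _ => rfl) hw
  have h1 : g = 1 := eq_one_of_fixT hA hb (fix_of_lt hpF hgp hV0 hlt)
  subst h1
  have h2 : (⟨1, hgT⟩ : Tor Fr G0) = 1 := rfl
  rw [h2, orderOf_one] at hg
  exact hp.out.one_lt.ne hg

/-- **the torus of a model** -/
theorem not_dvd_T {K : Type*} [Group K] (M : Model Fr K) (hA : AmbT Fr r M.I) (hpF : (p : F) ≠ 0)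
    (he : 1 < orderOf (Nat.card F : ZMod p)) (hlt : finrank F Fr.V0 < orderOf (Nat.card F : ZMod p)) :
    ¬ p ∣ Nat.card (WittModel.T M) := by
  have : Finite (V ≃ₗ[F] V) := Finite.of_injective (fun g : V ≃ₗ[F] V => (g : V → V)) DFunLike.coe_injective
  intro h1
  refine not_dvd_Tor hA hpF he hlt (h1.trans ?_)
  have h2 : Tor Fr M.I ≤ M.I := fun g hg => hg.1
  have h3 : Nat.card ↥((Tor Fr M.I).subgroupOf M.I) = Nat.card (Tor Fr M.I) :=
    Nat.card_congr (Subgroup.subgroupOfEquivOfLe h2).toEquiv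
  rw [← h3]
  exact Subgroup.card_dvd_of_surjective (M.φ.subgroupMap ((Tor Fr M.I).subgroupOf M.I))
    (M.φ.subgroupMap_surjective _)

end tor

/-! ### the numbers -/

section num

variable {p : ℕ} [hp : Fact p.Prime]

/-- `ord_p(q)` odd: `p` divides no number `1 + q^k` -/
theorem not_dvd_one_add (hp2 : p ≠ 2) {q : ℕ} (ho : Odd (orderOf (q : ZMod p))) (k : ℕ) : ¬ p ∣ 1 + q ^ k := by
  intro h1
  rw [← ZMod.natCast_eq_zero_iff] at h1
  push_cast at h1
  have h2 : (q : ZMod p) ^ k = -1 := by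
    rw [eq_neg_iff_add_eq_zero, add_comm]
    exact h1
  have h3 : (-1 : ZMod p) ^ orderOf (q : ZMod p) = 1 := by
    rw [← h2, ← pow_mul, mul_comm, pow_mul, pow_orderOf_eq_one, one_pow]
  rw [ho.neg_one_pow] at h3
  have h4 : (2 : ZMod p) = 0 := by
    have : (1 : ZMod p) + 1 = 0 := by
      nth_rewrite 1 [← h3]
      ring
    rw [← this]
    norm_num
  have h5 : ((2 : ℕ) : ZMod p) = 0 := by exact_mod_cast h4
  rw [ZMod.natCast_eq_zero_iff] at h5
  exact hp2 ((Nat.prime_dvd_prime_iff_eq hp.out Nat.prime_two).1 h5)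

/-- `y = q`, `z = q` -/
theorem hlin_sp (hp2 : p ≠ 2) {q : ℕ} (ho : Odd (orderOf (q : ZMod p))) (i : ℕ) : ¬ p ∣ 1 + q ^ i * q := by
  rw [← pow_succ]
  exact not_dvd_one_add hp2 ho _

/-- `y = q`, `z = q²` -/
theorem hlin_minus (hp2 : p ≠ 2) {q : ℕ} (ho : Odd (orderOf (q : ZMod p))) (i : ℕ) : ¬ p ∣ 1 + q ^ i * q ^ 2 := by
  rw [← pow_add]
  exact not_dvd_one_add hp2 ho _

/-- `ord_p(-q)` even: `p` divides no number `1 + q^(2 k + 1)` -/
theorem not_dvd_one_add_su {q : ℕ} (ho : Even (orderOf (-(q : ZMod p)))) (k : ℕ) :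
    ¬ p ∣ 1 + q ^ (2 * k + 1) := by
  intro h1
  rw [← ZMod.natCast_eq_zero_iff] at h1
  push_cast at h1
  have h2 : (-(q : ZMod p)) ^ (2 * k + 1) = 1 := by
    rw [Odd.neg_pow ⟨k, rfl⟩, neg_eq_iff_add_eq_zero, add_comm]
    exact h1
  have h3 := orderOf_dvd_of_pow_eq_one h2
  obtain ⟨c, hc⟩ := ho
  obtain ⟨d, hd⟩ := h3
  rw [hc] at hd
  have h4 : (c + c) * d = 2 * (c * d) := by ring
  omega

/-- `y = q²`, `z = q` -/
theorem hlin_su_even {q : ℕ} (ho : Even (orderOf (-(q : ZMod p)))) (i : ℕ) :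
    ¬ p ∣ 1 + (q ^ 2) ^ i * q := by
  rw [← pow_mul, ← pow_succ]
  exact not_dvd_one_add_su ho _

/-- `y = q²`, `z = q³` -/
theorem hlin_su_odd {q : ℕ} (ho : Even (orderOf (-(q : ZMod p)))) (i : ℕ) :
    ¬ p ∣ 1 + (q ^ 2) ^ i * q ^ 3 := by
  rw [← pow_mul, ← pow_add]
  have e : 2 * i + 3 = 2 * (i + 1) + 1 := by ring
  rw [e]
  exact not_dvd_one_add_su ho _

/-- `ord_p(q²) = ord_p(-q) / 2` -/
theorem order_su {q : ℕ} (ho : Even (orderOf (-(q : ZMod p)))) :
    2 * orderOf ((q ^ 2 : ℕ) : ZMod p) = orderOf (-(q : ZMod p)) := by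
  have h1 : ((q ^ 2 : ℕ) : ZMod p) = (-(q : ZMod p)) ^ 2 := by
    push_cast
    ring
  rw [h1, orderOf_pow' _ two_ne_zero, Nat.gcd_eq_right ho.two_dvd]
  exact Nat.mul_div_cancel' ho.two_dvd

end num

end Cfsg.Agent.H965.XZ
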