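import Cfsg.Agent.H965.XZ.Walk

/-!
# Poincaré sums: one step of the parabolic chain for components of type `D_k` (helper965, for S4791 / S4927)

* `DPath A J c l` : `c 0, …, c (l + 2)` is a component of type `D_{l+3}` of `J`: chain `c 0 - … - c (l + 1)`, and `c (l + 2)`
  joined to `c l`;
* `sum_dend` : `∑_{W_J} = (1 + y + … + y^(l+2)) (1 + y^(l+2)) ∑_{W_{J \ {c 0}}}`.
-/

set_option autoImplicit false
set_option linter.unusedSectionVars false

namespace Cfsg.Agent.H965.XZ

open CoxeterSystem Cfsg.Agent.ChevalleyStructure.CoxeterGeom Cfsg.Agent.Tits.Roots Cfsg.Agent.Tits.Core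
  Cfsg.Agent.Tits.RootComb Cfsg.Agent.Tits.Exchange Cfsg.Agent.Nodes.Comb Cfsg.Agent.Nodes.Reps
  Cfsg.Agent.Nodes.BNOf Cfsg.Agent.Nodes.StabComb Cfsg.Agent.Nodes.Bruhat Cfsg.Agent.Nodes.OppDec
  Cfsg.Agent.Nodes.LeviDec Cfsg.Agent.Nodes.NormalForm Cfsg.Agent.ChevalleyStructure.WeylAbstract
  Cfsg.Agent.H35.Poin

section Orbit

variable {ι Φ : Type*} [Fintype ι] [DecidableEq ι] {R : RData ι Φ}

/-- `c 0, …, c (l + 2)` is a component of type `D_{l+3}` of `J`, with simple end node `c 0` (or middle node, `l = 0`) -/
structure DPath (A : ι → ι → ℤ) (J : Set ι) (c : ℕ → ι) (l : ℕ) : Prop where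
  mem : ∀ t < l + 3, c t ∈ J
  adj : ∀ t, t < l + 1 → A (c t) (c (t + 1)) = -1 ∧ A (c (t + 1)) (c t) = -1
  fork : A (c l) (c (l + 2)) = -1 ∧ A (c (l + 2)) (c l) = -1
  far : ∀ s t, s + 1 < t → t < l + 2 → A (c s) (c t) = 0 ∧ A (c t) (c s) = 0
  farl : ∀ s, s < l → A (c s) (c (l + 2)) = 0 ∧ A (c (l + 2)) (c s) = 0
  comm : A (c (l + 1)) (c (l + 2)) = 0 ∧ A (c (l + 2)) (c (l + 1)) = 0
  out : ∀ j ∈ J, (∀ t < l + 3, c t ≠ j) → ∀ t < l + 3, A (c t) j = 0
  inj : ∀ s < l + 3, ∀ t < l + 3, c s = c t → s = t

/-- the walk there and back -/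
def dk (c : ℕ → ι) (l t : ℕ) : ι := c (if t < l + 3 then t else 2 * l + 3 - t)

theorem dk_lt (c : ℕ → ι) {l t : ℕ} (h : t < l + 3) : dk c l t = c t := by
  unfold dk; rw [if_pos h]

theorem dk_ge (c : ℕ → ι) {l t : ℕ} (h : l + 3 ≤ t) : dk c l t = c (2 * l + 3 - t) := by
  unfold dk; rw [if_neg (by omega)]

variable {J : Set ι} {c : ℕ → ι} {l : ℕ} (hP : DPath R.A J c l)

include hP in
theorem mud_out {j : ι} (hj : j ∈ J) (hc : ∀ t < l + 3, c t ≠ j) : ∀ t ≤ 2 * l + 4, mu R (dk c l) t j = 0 := by
  intro t
  induction t with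
  | zero =>
    intro _
    show (Pi.single (dk c l 0) 1 : ι → ℤ) j = 0
    rw [dk_lt c (by omega), Pi.single_apply, if_neg]
    exact fun e => hc 0 (by omega) e.symm
  | succ t ih =>
    intro ht
    rw [mu_succ, ih (by omega)]
    have h1 : R.A (dk c l t) j = 0 := by
      unfold dk
      exact hP.out j hj hc _ (by split_ifs <;> omega)
    rw [h1]
    ring

include hP in
/-- the way there, chain -/
theorem mud_there : ∀ t ≤ l, (∀ s < l + 2, mu R (dk c l) t (c s) = if s = t then 1 else if s + 1 = t then -1 else 0) ∧
    mu R (dk c l) t (c (l + 2)) = 0 := by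
  intro t
  induction t with
  | zero =>
    intro _
    have e0 : mu R (dk c l) 0 = Pi.single (c 0) 1 := by
      show (Pi.single (dk c l 0) 1 : ι → ℤ) = _
      rw [dk_lt c (by omega)]
    rw [e0]
    constructor
    · intro s hs
      rw [Pi.single_apply]
      by_cases h : s = 0
      · subst h
        rw [if_pos rfl, if_pos rfl]
      · rw [if_neg (fun e => h (hP.inj s (by omega) 0 (by omega) e)), if_neg h, if_neg (by omega)]
    · rw [Pi.single_apply, if_neg]
      intro e
      have := hP.inj _ (by omega) 0 (by omega) e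
      omega
  | succ t ih =>
    intro ht
    obtain ⟨h1, h2⟩ := ih (by omega)
    have hA : mu R (dk c l) t (c t) = 1 := by
      rw [h1 t (by omega), if_pos rfl]
    constructor
    · intro s hs
      rw [mu_succ, dk_lt c (show t < l + 3 by omega), hA, h1 s hs, one_mul]
      rcases lt_trichotomy s t with hst | rfl | hst
      · rw [if_neg (by omega)]
        by_cases h3 : s + 1 = t
        · subst h3
          rw [if_pos rfl, if_neg (by omega), if_neg (by omega), (hP.adj s (by omega)).2]
          norm_num
        · rw [if_neg h3, if_neg (by omega), if_neg (by omega), (hP.far s t (by omega) (by omega)).2]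
          norm_num
      · rw [if_pos rfl, if_neg (by omega), if_pos rfl, R.A_diag]
        norm_num
      · rw [if_neg (by omega), if_neg (by omega)]
        by_cases h3 : t + 1 = s
        · subst h3
          rw [if_pos rfl, (hP.adj t (by omega)).1]
          norm_num
        · rw [if_neg (by omega), if_neg (by omega), (hP.far t s (by omega) hs).1]
          norm_num
    · rw [mu_succ, dk_lt c (show t < l + 3 by omega), hA, h2, (hP.farl t (by omega)).1]
      norm_num

include hP in
theorem mud_one : (∀ s < l, mu R (dk c l) (l + 1) (c s) = 0) ∧ mu R (dk c l) (l + 1) (c l) = -1 ∧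
    mu R (dk c l) (l + 1) (c (l + 1)) = 1 ∧ mu R (dk c l) (l + 1) (c (l + 2)) = 1 := by
  obtain ⟨h1, h2⟩ := mud_there hP l le_rfl
  have hA : mu R (dk c l) l (c l) = 1 := by rw [h1 l (by omega), if_pos rfl]
  refine ⟨fun s hs => ?_, ?_, ?_, ?_⟩
  · rw [mu_succ, dk_lt c (by omega), hA, h1 s (by omega), if_neg (by omega)]
    by_cases h3 : s + 1 = l
    · subst h3
      rw [if_pos rfl, (hP.adj s (by omega)).2]
      norm_num
    · rw [if_neg h3, (hP.far s l (by omega) (by omega)).2]
      norm_num
  · rw [mu_succ, dk_lt c (by omega), hA, R.A_diag]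
    norm_num
  · rw [mu_succ, dk_lt c (by omega), hA, h1 (l + 1) (by omega), if_neg (by omega), if_neg (by omega),
      (hP.adj l (by omega)).1]
    norm_num
  · rw [mu_succ, dk_lt c (by omega), hA, h2, hP.fork.1]
    norm_num

include hP in
theorem mud_two : (∀ s < l, mu R (dk c l) (l + 2) (c s) = 0) ∧ mu R (dk c l) (l + 2) (c l) = 0 ∧
    mu R (dk c l) (l + 2) (c (l + 1)) = -1 ∧ mu R (dk c l) (l + 2) (c (l + 2)) = 1 := by
  obtain ⟨h1, h2, h3, h4⟩ := mud_one hP
  have e1 : dk c l (l + 1) = c (l + 1) := dk_lt c (by omega)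
  refine ⟨fun s hs => ?_, ?_, ?_, ?_⟩
  · rw [mu_succ, e1, h3, h1 s hs, (hP.far s (l + 1) (by omega) (by omega)).2]
    norm_num
  · rw [mu_succ, e1, h3, h2, (hP.adj l (by omega)).2]
    norm_num
  · rw [mu_succ, e1, h3, R.A_diag]
    norm_num
  · rw [mu_succ, e1, h3, h4, hP.comm.1]
    norm_num

include hP in
theorem mud_three : (∀ s < l, mu R (dk c l) (l + 3) (c s) = 0) ∧ mu R (dk c l) (l + 3) (c l) = 1 ∧
    mu R (dk c l) (l + 3) (c (l + 1)) = -1 ∧ mu R (dk c l) (l + 3) (c (l + 2)) = -1 := by
  obtain ⟨h1, h2, h3, h4⟩ := mud_two hP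
  have e1 : dk c l (l + 2) = c (l + 2) := dk_lt c (by omega)
  refine ⟨fun s hs => ?_, ?_, ?_, ?_⟩
  · rw [mu_succ, e1, h4, h1 s hs, (hP.farl s hs).2]
    norm_num
  · rw [mu_succ, e1, h4, h2, hP.fork.2]
    norm_num
  · rw [mu_succ, e1, h4, h3, hP.comm.2]
    norm_num
  · rw [mu_succ, e1, h4, R.A_diag]
    norm_num

include hP in
/-- the way back -/
theorem mud_back : ∀ e ≤ l, (∀ s < l + 2, mu R (dk c l) (l + 4 + e) (c s) =
    if s + e + 1 = l then 1 else if s + e = l then -1 else 0) ∧ mu R (dk c l) (l + 4 + e) (c (l + 2)) = 0 := by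
  intro e
  induction e with
  | zero =>
    intro _
    obtain ⟨h1, h2, h3, h4⟩ := mud_three hP
    have e1 : dk c l (l + 3) = c l := by rw [dk_ge c le_rfl]; congr 1; omega
    constructor
    · intro s hs
      rw [add_zero, mu_succ, e1, h2, one_mul]
      rcases lt_trichotomy s l with hsl | rfl | hsl
      · rw [h1 s hsl]
        by_cases h5 : s + 1 = l
        · subst h5
          rw [if_pos (by omega), (hP.adj s (by omega)).2]
          norm_num
        · rw [if_neg (by omega), if_neg (by omega), (hP.far s l (by omega) (by omega)).2]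
          norm_num
      · rw [h2, if_neg (by omega), if_pos (by omega), R.A_diag]
        norm_num
      · have e2 : s = l + 1 := by omega
        rw [e2, h3, if_neg (by omega), if_neg (by omega), (hP.adj l (by omega)).1]
        norm_num
    · rw [add_zero, mu_succ, e1, h2, h4, hP.fork.1]
      norm_num
  | succ e ih =>
    intro he
    obtain ⟨h1, h2⟩ := ih (by omega)
    have e1 : dk c l (l + 4 + e) = c (l - 1 - e) := by
      rw [dk_ge c (by omega)]
      congr 1
      omega
    have hA : mu R (dk c l) (l + 4 + e) (c (l - 1 - e)) = 1 := by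
      rw [h1 _ (by omega), if_pos (by omega)]
    have e2 : l + 4 + (e + 1) = (l + 4 + e) + 1 := by omega
    constructor
    · intro s hs
      rw [e2, mu_succ, e1, hA, h1 s hs, one_mul]
      by_cases h3 : s + e + 1 = l
      · have e3 : l - 1 - e = s := by omega
        rw [if_pos h3, if_neg (show ¬ s + (e + 1) + 1 = l by omega), if_pos (show s + (e + 1) = l by omega), e3,
          R.A_diag]
        norm_num
      · rw [if_neg h3]
        by_cases h4 : s + e = l
        · have e3 : l - 1 - e + 1 = s := by omega
          rw [if_pos h4, if_neg (show ¬ s + (e + 1) + 1 = l by omega), if_neg (show ¬ s + (e + 1) = l by omega)]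
          have h5 := (hP.adj (l - 1 - e) (by omega)).1
          rw [e3] at h5
          rw [h5]
          norm_num
        · rw [if_neg h4]
          by_cases h5 : s + (e + 1) + 1 = l
          · have e3 : l - 1 - e = s + 1 := by omega
            rw [if_pos h5, e3, (hP.adj s (by omega)).2]
            norm_num
          · rw [if_neg h5, if_neg (show ¬ s + (e + 1) = l by omega)]
            have h6 : R.A (c (l - 1 - e)) (c s) = 0 := by
              rcases Nat.lt_or_ge s (l - 1 - e) with h7 | h7
              · exact (hP.far s _ (by omega) (by omega)).2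
              · exact (hP.far _ s (by omega) (by omega)).1
            rw [h6]
            norm_num
    · rw [e2, mu_succ, e1, hA, h2, (hP.farl (l - 1 - e) (by omega)).1]
      norm_num

variable (R) in
theorem act_comm {i j : ι} (h1 : R.A i j = 0) (h2 : R.A j i = 0) (m : ι → ℤ) : R.act i (R.act j m) = R.act j (R.act i m) := by
  funext k
  unfold RData.act
  rw [h1, h2]
  ring

variable (R) in
/-- the weights: the walk and one more -/
def nu (c : ℕ → ι) (l t : ℕ) : ι → ℤ := if t < 2 * l + 5 then mu R (dk c l) t else R.act (c (l + 2)) (mu R (dk c l) (l + 1))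

theorem nu_lt {t : ℕ} (ht : t < 2 * l + 5) : nu R c l t = mu R (dk c l) t := by unfold nu; rw [if_pos ht]

theorem nu_last : nu R c l (2 * l + 5) = R.act (c (l + 2)) (mu R (dk c l) (l + 1)) := by
  unfold nu; rw [if_neg (by omega)]

theorem mu_eq_act (u : ℕ → ι) (t : ℕ) : mu R u (t + 1) = R.act (u t) (mu R u t) := rfl

include hP in
theorem mud_pos {t : ℕ} (ht : t < 2 * l + 4) : mu R (dk c l) t (dk c l t) = 1 := by
  rcases Nat.lt_or_ge t (l + 1) with h | h
  · rw [dk_lt c (by omega), (mud_there hP t (by omega)).1 t (by omega), if_pos rfl]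
  · rcases Nat.lt_or_ge t (l + 2) with h2 | h2
    · have e : t = l + 1 := by omega
      rw [e, dk_lt c (by omega)]
      exact (mud_one hP).2.2.1
    · rcases Nat.lt_or_ge t (l + 3) with h3 | h3
      · have e : t = l + 2 := by omega
        rw [e, dk_lt c (by omega)]
        exact (mud_two hP).2.2.2
      · rcases Nat.lt_or_ge t (l + 4) with h4 | h4
        · have e : t = l + 3 := by omega
          rw [e, dk_ge c (by omega)]
          have e2 : 2 * l + 3 - (l + 3) = l := by omega
          rw [e2]
          exact (mud_three hP).2.1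
        · obtain ⟨e, rfl⟩ : ∃ e, t = l + 4 + e := ⟨t - (l + 4), by omega⟩
          rw [dk_ge c (by omega), (mud_back hP e (by omega)).1 _ (by omega), if_pos (by omega)]

include hP in
theorem nud_out {j : ι} (hj : j ∈ J) (hc : ∀ t < l + 3, c t ≠ j) {t : ℕ} (ht : t < 2 * l + 6) : nu R c l t j = 0 := by
  rcases Nat.lt_or_ge t (2 * l + 5) with h | h
  · rw [nu_lt h]
    exact mud_out hP hj hc t (by omega)
  · have e : t = 2 * l + 5 := by omega
    rw [e, nu_last]
    show mu R (dk c l) (l + 1) j - mu R (dk c l) (l + 1) (c (l + 2)) * R.A (c (l + 2)) j = 0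
    rw [mud_out hP hj hc _ (by omega), hP.out j hj hc _ (by omega)]
    ring

include hP in
/-- closure -/
theorem nud_closed {t : ℕ} (ht : t < 2 * l + 6) {j : ι} (hj : j ∈ J) : ∃ s < 2 * l + 6, nu R c l s = R.act j (nu R c l t) := by
  by_cases hc : ∃ s < l + 3, c s = j
  swap
  · push Not at hc
    exact ⟨t, ht, (act_zero R (nud_out hP hj hc ht)).symm⟩
  obtain ⟨s, hs, rfl⟩ := hc
  -- up and down along the walk
  have hup : ∀ t, t < 2 * l + 4 → dk c l t = c s → ∃ s' < 2 * l + 6, nu R c l s' = R.act (c s) (nu R c l t) := by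
    intro t ht e
    refine ⟨t + 1, by omega, ?_⟩
    rw [nu_lt (by omega), nu_lt (by omega), mu_eq_act, e]
  have hdn : ∀ t, t < 2 * l + 4 → dk c l t = c s → ∃ s' < 2 * l + 6, nu R c l s' = R.act (c s) (nu R c l (t + 1)) := by
    intro t ht e
    refine ⟨t, by omega, ?_⟩
    rw [nu_lt (by omega), nu_lt (by omega), mu_eq_act, e, act_act]
  have hfix : nu R c l t (c s) = 0 → ∃ s' < 2 * l + 6, nu R c l s' = R.act (c s) (nu R c l t) := fun h =>
    ⟨t, ht, (act_zero R h).symm⟩
  -- the extra weight
  have hx : nu R c l (2 * l + 5) = R.act (c (l + 1)) (mu R (dk c l) (l + 3)) := by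
    rw [nu_last, mu_eq_act (dk c l) (l + 2), mu_eq_act (dk c l) (l + 1), dk_lt c (show l + 2 < l + 3 by omega),
      dk_lt c (show l + 1 < l + 3 by omega), act_comm R hP.comm.2 hP.comm.1, act_act]
  rcases Nat.lt_or_ge t (l + 1) with h | h
  · -- `t ≤ l`
    obtain ⟨h1, h2⟩ := mud_there hP t (by omega)
    by_cases e1 : s = t
    · exact hup t (by omega) (by rw [dk_lt c (by omega), e1])
    · by_cases e2 : s + 1 = t
      · subst e2
        exact hdn s (by omega) (dk_lt c (by omega))
      · apply hfix
        rw [nu_lt (by omega)]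
        rcases Nat.lt_or_ge s (l + 2) with h3 | h3
        · rw [h1 s h3, if_neg e1, if_neg e2]
        · have e3 : s = l + 2 := by omega
          rw [e3, h2]
  · rcases Nat.lt_or_ge t (l + 2) with h2 | h2
    · have e : t = l + 1 := by omega
      subst e
      obtain ⟨h3, h4, h5, h6⟩ := mud_one hP
      rcases Nat.lt_or_ge s l with h7 | h7
      · apply hfix
        rw [nu_lt (by omega), h3 s h7]
      · rcases Nat.lt_or_ge s (l + 1) with h8 | h8
        · have e : s = l := by omega
          subst e
          exact hdn s (by omega) (dk_lt c (by omega))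
        · rcases Nat.lt_or_ge s (l + 2) with h9 | h9
          · have e : s = l + 1 := by omega
            subst e
            exact hup _ (by omega) (dk_lt c (by omega))
          · have e : s = l + 2 := by omega
            subst e
            refine ⟨2 * l + 5, by omega, ?_⟩
            rw [nu_last, nu_lt (by omega)]
    · rcases Nat.lt_or_ge t (l + 3) with h3 | h3
      · have e : t = l + 2 := by omega
        subst e
        obtain ⟨h4, h5, h6, h7⟩ := mud_two hP
        rcases Nat.lt_or_ge s l with h8 | h8
        · apply hfix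
          rw [nu_lt (by omega), h4 s h8]
        · rcases Nat.lt_or_ge s (l + 1) with h9 | h9
          · have e : s = l := by omega
            apply hfix
            rw [nu_lt (by omega), e, h5]
          · rcases Nat.lt_or_ge s (l + 2) with h10 | h10
            · have e : s = l + 1 := by omega
              subst e
              exact hdn (l + 1) (by omega) (dk_lt c (by omega))
            · have e : s = l + 2 := by omega
              subst e
              exact hup _ (by omega) (dk_lt c (by omega))
      · rcases Nat.lt_or_ge t (l + 4) with h4 | h4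
        · have e : t = l + 3 := by omega
          subst e
          obtain ⟨h5, h6, h7, h8⟩ := mud_three hP
          rcases Nat.lt_or_ge s l with h9 | h9
          · apply hfix
            rw [nu_lt (by omega), h5 s h9]
          · rcases Nat.lt_or_ge s (l + 1) with h10 | h10
            · have e : s = l := by omega
              refine hup _ (by omega) ?_
              rw [dk_ge c le_rfl]
              congr 1
              omega
            · rcases Nat.lt_or_ge s (l + 2) with h11 | h11
              · have e : s = l + 1 := by omega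
                refine ⟨2 * l + 5, by omega, ?_⟩
                rw [hx, nu_lt (by omega), e]
              · have e : s = l + 2 := by omega
                subst e
                exact hdn (l + 2) (by omega) (dk_lt c (by omega))
        · rcases Nat.lt_or_ge t (2 * l + 5) with h5 | h5
          · obtain ⟨e, rfl⟩ : ∃ e, t = l + 4 + e := ⟨t - (l + 4), by omega⟩
            obtain ⟨h6, h7⟩ := mud_back hP e (by omega)
            by_cases e1 : s + e + 1 = l
            · refine hup _ (by omega) ?_
              rw [dk_ge c (by omega)]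
              congr 1
              omega
            · by_cases e2 : s + e = l
              · have h8 := hdn (l + 3 + e) (by omega) (by
                  rw [dk_ge c (by omega)]
                  congr 1
                  omega)
                have e3 : l + 3 + e + 1 = l + 4 + e := by omega
                rwa [e3] at h8
              · apply hfix
                rw [nu_lt (by omega)]
                rcases Nat.lt_or_ge s (l + 2) with h8 | h8
                · rw [h6 s h8, if_neg e1, if_neg e2]
                · have e3 : s = l + 2 := by omega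
                  rw [e3, h7]
          · have e : t = 2 * l + 5 := by omega
            subst e
            obtain ⟨h3', h4', h5', h6'⟩ := mud_one hP
            rcases Nat.lt_or_ge s l with h8 | h8
            · apply hfix
              rw [nu_last]
              show mu R (dk c l) (l + 1) (c s) - mu R (dk c l) (l + 1) (c (l + 2)) * R.A (c (l + 2)) (c s) = 0
              rw [h3' s h8, (hP.farl s h8).2]
              ring
            · rcases Nat.lt_or_ge s (l + 1) with h9 | h9
              · have e : s = l := by omega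
                subst e
                apply hfix
                rw [nu_last]
                show mu R (dk c s) (s + 1) (c s) - mu R (dk c s) (s + 1) (c (s + 2)) * R.A (c (s + 2)) (c s) = 0
                rw [h4', h6', hP.fork.2]
                ring
              · rcases Nat.lt_or_ge s (l + 2) with h10 | h10
                · have e : s = l + 1 := by omega
                  subst e
                  refine ⟨l + 3, by omega, ?_⟩
                  rw [hx, act_act, nu_lt (by omega)]
                · have e : s = l + 2 := by omega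
                  subst e
                  refine ⟨l + 1, by omega, ?_⟩
                  rw [nu_last, act_act, nu_lt (by omega)]

/-- the lengths -/
def lenD (l t : ℕ) : ℕ := if t < 2 * l + 5 then t else l + 2

theorem nud_step (hP : DPath R.A J c l) {t : ℕ} (ht : t < 2 * l + 6) (h0 : 0 < t) :
    ∃ s < t, ∃ i, (∃ a < l + 3, i = c a) ∧ 0 < nu R c l s i ∧ nu R c l t = R.act i (nu R c l s) ∧
      lenD l t = lenD l s + 1 := by
  rcases Nat.lt_or_ge t (2 * l + 5) with h | h
  · obtain ⟨s, rfl⟩ : ∃ s, t = s + 1 := ⟨t - 1, by omega⟩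
    refine ⟨s, by omega, dk c l s, ⟨_, ?_, rfl⟩, ?_, ?_, ?_⟩
    · split_ifs <;> omega
    · rw [nu_lt (by omega), mud_pos hP (by omega)]
      exact one_pos
    · rw [nu_lt h, nu_lt (by omega), mu_eq_act]
    · unfold lenD
      rw [if_pos h, if_pos (by omega)]
  · have e : t = 2 * l + 5 := by omega
    subst e
    refine ⟨l + 1, by omega, c (l + 2), ⟨l + 2, by omega, rfl⟩, ?_, ?_, ?_⟩
    · rw [nu_lt (by omega), (mud_one hP).2.2.2]
      exact one_pos
    · rw [nu_last, nu_lt (by omega)]
    · unfold lenD
      rw [if_neg (by omega), if_pos (by omega)]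

theorem nud_inj [Finite Φ] (hP : DPath R.A J c l) {s t : ℕ} (hs : s < 2 * l + 6) (ht : t < 2 * l + 6)
    (e : nu R c l s = nu R c l t) : s = t := by
  classical
  have : Fintype Φ := Fintype.ofFinite _
  have hQ : ∀ t < 2 * l + 6, R.Qw (fun _ => Multiplicative.ofAdd (1 : ℕ)) (nu R c l t) =
      Multiplicative.ofAdd (lenD l t) := by
    intro t
    induction t using Nat.strong_induction_on with
    | _ t ih =>
      intro ht
      rcases Nat.eq_zero_or_pos t with rfl | h0
      · rw [nu_lt (by omega)]
        exact Qw_single R _ _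
      · obtain ⟨s, hs, i, -, h1, h2, h3⟩ := nud_step hP ht h0
        rw [h2, Qw_act R _ (fun _ _ => rfl) _ _ h1, ih s hs (by omega), ← ofAdd_add, h3, add_comm]
  have h1 : lenD l s = lenD l t := by
    have h2 := hQ s hs
    rw [e, hQ t ht] at h2
    exact (Multiplicative.ofAdd.injective h2).symm
  -- only the extra weight and `l + 2` have the same length
  have key : nu R c l (2 * l + 5) ≠ nu R c l (l + 2) := by
    intro e
    have h2 := congrFun e (c (l + 1))
    rw [nu_last, nu_lt (by omega), (mud_two hP).2.2.1] at h2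
    have h3 : R.act (c (l + 2)) (mu R (dk c l) (l + 1)) (c (l + 1)) = 1 := by
      show mu R (dk c l) (l + 1) (c (l + 1)) - mu R (dk c l) (l + 1) (c (l + 2)) * R.A (c (l + 2)) (c (l + 1)) = 1
      rw [(mud_one hP).2.2.1, hP.comm.2]
      ring
    rw [h3] at h2
    norm_num at h2
  unfold lenD at h1
  split_ifs at h1 with h2 h3 h3
  · exact h1
  · exfalso
    have e1 : t = 2 * l + 5 := by omega
    rw [h1, e1] at e
    exact key e.symm
  · exfalso
    have e1 : s = 2 * l + 5 := by omega
    rw [← h1, e1] at e
    exact key e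
  · omega

theorem sum_lenD {S : Type*} [CommSemiring S] (y : S) (l : ℕ) :
    ∑ t ∈ Finset.range (2 * l + 6), y ^ lenD l t = gs y (l + 3) * (1 + y ^ (l + 2)) := by
  rw [Finset.sum_range_succ]
  have h1 : lenD l (2 * l + 5) = l + 2 := by unfold lenD; rw [if_neg (by omega)]
  have h2 : ∑ t ∈ Finset.range (2 * l + 5), y ^ lenD l t = ∑ t ∈ Finset.range (2 * l + 5), y ^ t :=
    Finset.sum_congr rfl fun t ht => by
      unfold lenD
      rw [if_pos (Finset.mem_range.1 ht)]
  have e1 : 2 * l + 5 = (l + 3) + (l + 2) := by omega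
  rw [h1, h2, e1, Finset.sum_range_add, mul_add, mul_one]
  have h3 : gs y (l + 3) * y ^ (l + 2) = y ^ (l + 2) + ∑ t ∈ Finset.range (l + 2), y ^ (l + 3 + t) := by
    unfold gs
    rw [Finset.sum_range_succ', add_mul, pow_zero, one_mul, add_comm, Finset.sum_mul]
    congr 1
    refine Finset.sum_congr rfl fun t _ => ?_
    rw [← pow_add]
    congr 1
    omega
  rw [h3]
  unfold gs
  ring

/-- **The step for a component of type `D`.** -/
theorem sum_dend [Finite Φ] [Fintype Φ] {S : Type*} [CommSemiring S] (x : Φ → S)
    (hx : ∀ i r, x (R.refl i r) = x r) (hxn : ∀ r, x (R.neg r) = x r) (hP : DPath R.A J c l) {y : S}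
    (hy : ∀ t < l + 3, x (R.simple (c t)) = y) :
    ∑ᶠ w ∈ (R.W J : Set (Equiv.Perm Φ)), R.Q x w =
      gs y (l + 3) * (1 + y ^ (l + 2)) * ∑ᶠ v ∈ (R.W (J \ {c 0}) : Set (Equiv.Perm Φ)), R.Q x v := by
  rw [sum_diagram R x hx hxn (J := J) (k := c 0) (N := 2 * l + 6) (μ := nu R c l) (y := fun t => y ^ lenD l t)
    (by omega) ?_ ?_ ?_ ?_ ?_, sum_lenD]
  · rw [nu_lt (by omega)]
    show (Pi.single (dk c l 0) 1 : ι → ℤ) = _
    rw [dk_lt c (by omega)]
  · show y ^ lenD l 0 = 1
    unfold lenD
    rw [if_pos (by omega), pow_zero]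
  · intro t ht h0
    obtain ⟨s, hs, i, ⟨a, ha, rfl⟩, h1, h2, h3⟩ := nud_step hP ht h0
    refine ⟨s, hs, c a, hP.mem a ha, h1, h2, ?_⟩
    rw [hy a ha, h3, pow_succ, mul_comm]
  · intro t ht j hj
    exact nud_closed hP ht hj
  · intro s hs t ht e
    exact nud_inj hP hs ht e

end Orbit

end Cfsg.Agent.H965.XZ
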